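import Mathlib
import Cfsg.Agent.H473.NilCover
import Cfsg.Agent.Lib.NilpotentCoprime

/-!
# Nilpotent subgroups of `GL_n(F)` containing a regular unipotent element
-/

set_option autoImplicit false

namespace Cfsg.Agent.H473

open Matrix

section general

variable {Γ : Type*} [Group Γ]

/-- The full preimage of a nilpotent subgroup of `Γ / Z(Γ)` is nilpotent. -/
theorem comap_center_nilpotent (K : Subgroup (Γ ⧸ Subgroup.center Γ)) (hK : Group.IsNilpotent ↥K) :
    Group.IsNilpotent ↥(K.comap (QuotientGroup.mk' (Subgroup.center Γ))) := by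
  have := hK
  refine Subgroup.isNilpotent_of_ker_le_center ((QuotientGroup.mk' (Subgroup.center Γ)).subgroupComap K) ?_
  intro x hx
  have h1 : (QuotientGroup.mk' (Subgroup.center Γ)) (x : Γ) = 1 := congrArg Subtype.val hx
  have h2 : (x : Γ) ∈ Subgroup.center Γ := (QuotientGroup.eq_one_iff _).1 h1
  rw [Subgroup.mem_center_iff] at h2 ⊢
  intro g
  exact Subtype.ext (h2 g)

/-- Bezout: an element is in a subgroup when two of its powers with coprime exponents are. -/
theorem mem_of_pow_mem_coprime {S : Subgroup Γ} {h : Γ} {a b : ℕ} (hab : Nat.Coprime a b)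
    (ha : h ^ a ∈ S) (hb : h ^ b ∈ S) : h ∈ S := by
  have h1 : (h ^ a) ^ (Nat.gcdA a b) * (h ^ b) ^ (Nat.gcdB a b) = h := by
    rw [← zpow_natCast h a, ← zpow_natCast h b, ← _root_.zpow_mul, ← _root_.zpow_mul, ← _root_.zpow_add,
      ← Nat.gcd_eq_gcd_ab, Nat.coprime_iff_gcd_eq_one.1 hab, Nat.cast_one, zpow_one]
  rw [← h1]
  exact mul_mem (zpow_mem ha _) (zpow_mem hb _)

/-- In a finite nilpotent subgroup the `p`-elements lie in a common `p`-subgroup. -/
theorem exists_pGroup [Finite Γ] {p : ℕ} [hp : Fact p.Prime] {N : Subgroup Γ} (hN : Group.IsNilpotent ↥N) :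
    ∃ P : Subgroup Γ, IsPGroup p ↥P ∧ P ≤ N ∧ ∀ x ∈ N, (∃ k : ℕ, x ^ p ^ k = 1) → x ∈ P := by
  have := hN
  obtain ⟨R⟩ : Nonempty (Sylow p ↥N) := inferInstance
  refine ⟨(R : Subgroup ↥N).map N.subtype, R.isPGroup'.map _, Subgroup.map_subtype_le _, ?_⟩
  rintro x hx ⟨k, hk⟩
  have h1 : IsPGroup p ↥(Subgroup.zpowers (⟨x, hx⟩ : ↥N)) := by
    have h2 : orderOf (⟨x, hx⟩ : ↥N) ∣ p ^ k := by
      apply orderOf_dvd_of_pow_eq_one
      exact Subtype.ext hk
    obtain ⟨j, -, hj⟩ := (Nat.dvd_prime_pow hp.out).1 h2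
    apply IsPGroup.of_card (n := j)
    rw [Nat.card_zpowers, hj]
  obtain ⟨Q, hQ⟩ := h1.exists_le_sylow
  have hRn : (R : Subgroup ↥N).Normal := inferInstance
  have h3 : Q = R := by
    have _ := Sylow.unique_of_normal R hRn
    exact Subsingleton.elim _ _
  refine Subgroup.mem_map.2 ⟨⟨x, hx⟩, ?_, rfl⟩
  rw [← h3]
  exact hQ (Subgroup.mem_zpowers _)

/-- A nilpotent subgroup containing a `p`-element `u` lies in `S`, if `S` contains the centralizer of `u` and the
`p`-subgroups containing `u`. -/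
theorem nilpotent_le [Finite Γ] {p : ℕ} [hp : Fact p.Prime] {N : Subgroup Γ} (hN : Group.IsNilpotent ↥N)
    {u : Γ} (hu : u ∈ N) (hup : ∃ k : ℕ, u ^ p ^ k = 1) (S : Subgroup Γ)
    (h1 : ∀ h : Γ, h * u = u * h → h ∈ S) (h2 : ∀ P : Subgroup Γ, IsPGroup p ↥P → u ∈ P → P ≤ S) : N ≤ S := by
  obtain ⟨P, hP, hPN, hPm⟩ := exists_pGroup (p := p) hN
  have huP : u ∈ P := hPm u hu hup
  have hPS := h2 P hP huP
  intro h hh
  obtain ⟨a, m, hm, ham⟩ := Nat.exists_eq_pow_mul_and_not_dvd (orderOf_pos h).ne' p hp.out.ne_one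
  have hcop : Nat.Coprime (p ^ a) m := Nat.Coprime.pow_left a ((Nat.Prime.coprime_iff_not_dvd hp.out).2 hm)
  refine mem_of_pow_mem_coprime hcop ?_ ?_
  · apply h1
    obtain ⟨k, hk⟩ := hup
    have := hN
    have e1 : Commute (⟨h ^ p ^ a, pow_mem hh _⟩ : ↥N) ⟨u, hu⟩ := by
      refine Cfsg.Agent.Lib.NilpotentCoprime.commute_of_pow_eq_one (m := m) (n := p ^ k) ?_ ?_ ?_
      · exact (Nat.Coprime.pow_left k ((Nat.Prime.coprime_iff_not_dvd hp.out).2 hm)).symm
      · apply Subtype.ext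
        change (h ^ p ^ a) ^ m = 1
        rw [← pow_mul, ← ham, pow_orderOf_eq_one]
      · exact Subtype.ext hk
    exact congrArg Subtype.val e1.eq
  · apply hPS
    apply hPm _ (pow_mem hh _)
    refine ⟨a, ?_⟩
    rw [← pow_mul, mul_comm, ← ham, pow_orderOf_eq_one]

/-- The criterion for groups between quotients by the centre: `K` is a subgroup of `Γ` containing the centre and `S`
is a set of elements all of whose nilpotent overgroups lie in `K`; then `S` lies in a nilpotent subgroup of `Γ`. -/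
theorem criterion {G : Subgroup (Γ ⧸ Subgroup.center Γ)} {𝓐 : Finset (Subgroup ↥G)} (h𝓐 : IsNilMinCover 𝓐)
    (K : Subgroup Γ) (hZ : Subgroup.center Γ ≤ K) {t : Γ} (ht : QuotientGroup.mk' (Subgroup.center Γ) t ∈ G)
    (htK : t ∉ K) (S : Set Γ) (hSG : ∀ s ∈ S, QuotientGroup.mk' (Subgroup.center Γ) s ∈ G)
    (hS : ∀ s ∈ S, ∀ N : Subgroup Γ, Group.IsNilpotent ↥N → s ∈ N → N ≤ K) :
    ∃ N : Subgroup Γ, Group.IsNilpotent ↥N ∧ S ⊆ N := by
  set π := QuotientGroup.mk' (Subgroup.center Γ) with hπ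
  have hker : ∀ a b : Γ, π a = π b → a ∈ K → b ∈ K := by
    intro a b hab ha
    have h1 : a⁻¹ * b ∈ Subgroup.center Γ := QuotientGroup.eq.1 hab
    have h2 : b = a * (a⁻¹ * b) := by group
    rw [h2]
    exact mul_mem ha (hZ h1)
  let M : Subgroup ↥G := (K.map π).comap G.subtype
  have hMmem : ∀ (g : ↥G) (h : Γ), π h = g → (g ∈ M ↔ h ∈ K) := by
    intro g h hg
    constructor
    · rintro ⟨k, hk, hk2⟩
      exact hker k h (hk2.trans hg.symm) hk
    · intro hh
      exact ⟨h, hh, hg⟩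
  have hM : M ≠ ⊤ := by
    intro e
    have h1 : (⟨π t, ht⟩ : ↥G) ∈ M := by rw [e]; exact Subgroup.mem_top _
    exact htK ((hMmem _ t rfl).1 h1)
  have hlift : ∀ N : Subgroup ↥G, Group.IsNilpotent ↥N → Group.IsNilpotent ↥((N.map G.subtype).comap π) := by
    intro N hN
    apply comap_center_nilpotent
    exact (Group.isNilpotent_congr (N.equivMapOfInjective _ G.subtype_injective)).1 hN
  obtain ⟨A, hA, -, hSA⟩ := h𝓐.exists_common hM {x : ↥G | ∃ s ∈ S, π s = x} (by
    rintro x ⟨s, hs, hsx⟩ N hN hxN g hg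
    obtain ⟨h, hh⟩ := QuotientGroup.mk'_surjective (Subgroup.center Γ) (g : Γ ⧸ Subgroup.center Γ)
    rw [hMmem g h hh]
    refine hS s hs _ (hlift N hN) ?_ ?_
    · change π s ∈ N.map G.subtype
      rw [hsx]
      exact Subgroup.mem_map_of_mem _ hxN
    · change π h ∈ N.map G.subtype
      rw [hh]
      exact Subgroup.mem_map_of_mem _ hg)
  refine ⟨_, hlift A hA, ?_⟩
  intro s hs
  have h1 : (⟨π s, hSG s hs⟩ : ↥G) ∈ A := hSA ⟨s, hs, rfl⟩
  exact ⟨_, h1, rfl⟩

end general

section matrices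

variable {F : Type*} [Field F] {n : ℕ}

/-- The stabilizer of the line spanned by `v`. -/
def lineStab (v : Fin n → F) : Subgroup (GL (Fin n) F) where
  carrier := {h | ∃ c : Fˣ, (h : Matrix (Fin n) (Fin n) F) *ᵥ v = (c : F) • v}
  one_mem' := ⟨1, by simp⟩
  mul_mem' := by
    rintro g h ⟨c, hc⟩ ⟨d, hd⟩
    refine ⟨c * d, ?_⟩
    rw [Units.val_mul, ← Matrix.mulVec_mulVec, hd, Matrix.mulVec_smul, hc, smul_smul, Units.val_mul, mul_comm]
  inv_mem' := by
    rintro g ⟨c, hc⟩
    refine ⟨c⁻¹, ?_⟩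
    have h1 : ((g⁻¹ : GL (Fin n) F) : Matrix (Fin n) (Fin n) F) *ᵥ ((g : Matrix (Fin n) (Fin n) F) *ᵥ v) = v := by
      rw [Matrix.mulVec_mulVec, ← Units.val_mul, inv_mul_cancel, Units.val_one, Matrix.one_mulVec]
    rw [hc, Matrix.mulVec_smul] at h1
    calc ((g⁻¹ : GL (Fin n) F) : Matrix (Fin n) (Fin n) F) *ᵥ v
        = ((c⁻¹ : Fˣ) : F) • ((c : F) • (((g⁻¹ : GL (Fin n) F) : Matrix (Fin n) (Fin n) F) *ᵥ v)) := by
          rw [smul_smul, ← Units.val_mul, inv_mul_cancel, Units.val_one, one_smul]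
      _ = ((c⁻¹ : Fˣ) : F) • v := by rw [h1]

theorem mem_lineStab {v : Fin n → F} {h : GL (Fin n) F} :
    h ∈ lineStab v ↔ ∃ c : Fˣ, (h : Matrix (Fin n) (Fin n) F) *ᵥ v = (c : F) • v := Iff.rfl

theorem mem_lineStab' {v : Fin n → F} (hv : v ≠ 0) {h : GL (Fin n) F} :
    h ∈ lineStab v ↔ ∃ c : F, (h : Matrix (Fin n) (Fin n) F) *ᵥ v = c • v := by
  constructor
  · rintro ⟨c, hc⟩; exact ⟨c, hc⟩
  · rintro ⟨c, hc⟩
    have hc0 : c ≠ 0 := by
      rintro rfl
      rw [zero_smul] at hc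
      apply hv
      have h1 : ((h⁻¹ : GL (Fin n) F) : Matrix (Fin n) (Fin n) F) *ᵥ ((h : Matrix (Fin n) (Fin n) F) *ᵥ v) = v := by
        rw [Matrix.mulVec_mulVec, ← Units.val_mul, inv_mul_cancel, Units.val_one, Matrix.one_mulVec]
      rw [hc, Matrix.mulVec_zero] at h1
      exact h1.symm
    exact ⟨Units.mk0 c hc0, hc⟩

theorem center_le_lineStab (v : Fin n → F) : Subgroup.center (GL (Fin n) F) ≤ lineStab v := by
  intro g hg
  by_cases hv : v = 0
  · exact ⟨1, by rw [hv]; simp⟩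
  · rw [mem_lineStab' hv]
    obtain ⟨a, ha⟩ := Matrix.GeneralLinearGroup.mem_center_iff_val_mem_range_scalar.1 hg
    refine ⟨a, ?_⟩
    rw [← ha]
    simp [Matrix.scalar_apply]

/-- A `p`-subgroup of `GL_n(F)` fixes a nonzero vector. -/
theorem exists_fixed_vector [Fintype F] {p : ℕ} [hp : Fact p.Prime] [CharP F p] (hn : 0 < n)
    {P : Subgroup (GL (Fin n) F)} (hP : IsPGroup p ↥P) :
    ∃ v : Fin n → F, v ≠ 0 ∧ ∀ h ∈ P, (h : Matrix (Fin n) (Fin n) F) *ᵥ v = v := by
  classical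
  let act : MulAction ↥P (Fin n → F) :=
    { smul := fun g v => ((g : GL (Fin n) F) : Matrix (Fin n) (Fin n) F) *ᵥ v
      one_smul := fun v => by
        change ((1 : GL (Fin n) F) : Matrix (Fin n) (Fin n) F) *ᵥ v = v
        rw [Units.val_one, Matrix.one_mulVec]
      mul_smul := fun g h v => by
        change (((g : GL (Fin n) F) * (h : GL (Fin n) F) : GL (Fin n) F) : Matrix (Fin n) (Fin n) F) *ᵥ v = _
        rw [Units.val_mul, ← Matrix.mulVec_mulVec]
        rfl }
  have hsm : ∀ (g : ↥P) (v : Fin n → F), g • v = ((g : GL (Fin n) F) : Matrix (Fin n) (Fin n) F) *ᵥ v :=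
    fun g v => rfl
  have hcard : p ∣ Nat.card (Fin n → F) := by
    rw [Nat.card_eq_fintype_card, Fintype.card_fun, Fintype.card_fin]
    obtain ⟨m, -, hm⟩ := FiniteField.card F p
    rw [hm, ← pow_mul]
    exact dvd_pow_self p (by positivity)
  have h0 : (0 : Fin n → F) ∈ MulAction.fixedPoints ↥P (Fin n → F) := by
    intro g
    rw [hsm, Matrix.mulVec_zero]
  obtain ⟨v, hv, hv0⟩ := hP.exists_fixed_point_of_prime_dvd_card_of_fixed_point (Fin n → F) hcard h0
  refine ⟨v, fun e => hv0 e.symm, fun h hh => ?_⟩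
  exact hv ⟨h, hh⟩

/-- The regular unipotent matrix. -/
def uMat (F : Type*) [Field F] (n : ℕ) : Matrix (Fin n) (Fin n) F :=
  fun i j => if i = j then 1 else if (i : ℕ) + 1 = j then 1 else 0

theorem uMat_upper : (uMat F n).BlockTriangular id := by
  intro i j hij
  have h1 : (j : ℕ) < i := hij
  have h2 : i ≠ j := by rintro rfl; exact lt_irrefl _ h1
  have h3 : ¬ ((i : ℕ) + 1 = j) := by omega
  simp [uMat, h2, h3]

theorem uMat_det : (uMat F n).det = 1 := by
  rw [Matrix.det_of_isUpperTriangular uMat_upper]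
  apply Finset.prod_eq_one
  intro i _
  simp [uMat]

/-- The regular unipotent element of `SL_n(F)`. -/
def uSL (F : Type*) [Field F] (n : ℕ) : Matrix.SpecialLinearGroup (Fin n) F := ⟨uMat F n, uMat_det⟩

/-- The regular unipotent element of `GL_n(F)`. -/
def uGL (F : Type*) [Field F] (n : ℕ) : GL (Fin n) F := Matrix.SpecialLinearGroup.toGL (uSL F n)

theorem uGL_val : ((uGL F n : GL (Fin n) F) : Matrix (Fin n) (Fin n) F) = uMat F n := rfl

theorem uMat_mulVec (v : Fin n → F) (i j : Fin n) (hij : (i : ℕ) + 1 = j) : (uMat F n *ᵥ v) i = v i + v j := by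
  have hne : i ≠ j := by rintro rfl; omega
  rw [Matrix.mulVec, dotProduct]
  rw [Finset.sum_eq_add i j hne]
  · simp [uMat, hij]
  · intro c _ hc
    have h1 : ¬ (i = c) := fun e => hc.1 e.symm
    have h2 : ¬ ((i : ℕ) + 1 = c) := by
      intro e
      apply hc.2
      apply Fin.ext
      omega
    simp [uMat, h1, h2]
  · intro h; exact absurd (Finset.mem_univ _) h
  · intro h; exact absurd (Finset.mem_univ _) h

theorem uMat_pow [Fintype F] {p : ℕ} [hp : Fact p.Prime] [CharP F p] (hn : 0 < n) :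
    ∃ k : ℕ, (uGL F n) ^ p ^ k = 1 := by
  have hne : Nonempty (Fin n) := ⟨⟨0, hn⟩⟩
  refine ⟨n, ?_⟩
  apply Units.ext
  rw [Units.val_pow_eq_pow_val, uGL_val, Units.val_one]
  have h1 : (uMat F n).charpoly = (Polynomial.X - Polynomial.C 1) ^ n := by
    rw [Matrix.charpoly_of_isUpperTriangular _ uMat_upper]
    have : ∀ i : Fin n, (Polynomial.X - Polynomial.C (uMat F n i i)) = (Polynomial.X - Polynomial.C (1 : F)) := by
      intro i; simp [uMat]
    rw [Finset.prod_congr rfl (fun i _ => this i), Finset.prod_const, Finset.card_univ, Fintype.card_fin]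
  have h2 := Matrix.aeval_self_charpoly (uMat F n)
  rw [h1] at h2
  simp only [map_pow, map_sub, Polynomial.aeval_X, map_one] at h2
  have h3 : (uMat F n - 1) ^ p ^ n = 0 := by
    have : n ≤ p ^ n := (Nat.lt_pow_self hp.out.one_lt).le
    obtain ⟨c, hc⟩ := Nat.exists_eq_add_of_le this
    rw [hc, pow_add, h2, zero_mul]
  rw [sub_pow_char_pow_of_commute (p := p) _ (Commute.one_right (uMat F n)), one_pow, sub_eq_zero] at h3
  exact h3

/-- the first basis vector -/
def e0 (F : Type*) [Field F] (n : ℕ) : Fin n → F := fun i => if (i : ℕ) = 0 then 1 else 0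

theorem e0_ne_zero (hn : 0 < n) : e0 F n ≠ 0 := by
  intro h
  have := congrFun h ⟨0, hn⟩
  simp [e0] at this

theorem uMat_e0 : uMat F n *ᵥ e0 F n = e0 F n := by
  ext i
  by_cases hi : (i : ℕ) + 1 < n
  · rw [uMat_mulVec _ i ⟨(i : ℕ) + 1, hi⟩ rfl]
    simp [e0]
  · rw [Matrix.mulVec, dotProduct, Finset.sum_eq_single i]
    · simp [uMat]
    · intro j _ hj
      have h1 : ¬ (i = j) := fun e => hj e.symm
      have h2 : ¬ ((i : ℕ) + 1 = j) := by
        intro e; have := j.2; omega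
      simp [uMat, h1, h2]
    · intro h; exact absurd (Finset.mem_univ _) h

/-- fixed vectors of the regular unipotent matrix -/
theorem eq_smul_e0 {v : Fin n → F} (hn : 0 < n) (hv : uMat F n *ᵥ v = v) : v = v ⟨0, hn⟩ • e0 F n := by
  ext i
  by_cases hi : (i : ℕ) = 0
  · have : i = ⟨0, hn⟩ := Fin.ext hi
    rw [this]
    simp [e0]
  · obtain ⟨j, hj⟩ : ∃ j : Fin n, (j : ℕ) + 1 = i := ⟨⟨(i : ℕ) - 1, by omega⟩, by simp; omega⟩
    have h1 := uMat_mulVec v j i hj
    rw [hv] at h1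
    have h2 : v i = 0 := by
      have : v j + 0 = v j + v i := by rw [add_zero]; exact h1
      exact (add_left_cancel this).symm
    simp [e0, hi, h2]

/-- commuting with the regular unipotent element -/
theorem mem_lineStab_of_commute (hn : 0 < n) {h : GL (Fin n) F} (hc : h * uGL F n = uGL F n * h) :
    h ∈ lineStab (e0 F n) := by
  rw [mem_lineStab' (e0_ne_zero hn)]
  have h1 : uMat F n *ᵥ ((h : Matrix (Fin n) (Fin n) F) *ᵥ e0 F n) = (h : Matrix (Fin n) (Fin n) F) *ᵥ e0 F n := by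
    have h2 : (h : Matrix (Fin n) (Fin n) F) * uMat F n = uMat F n * (h : Matrix (Fin n) (Fin n) F) :=
      congrArg Units.val hc
    rw [Matrix.mulVec_mulVec, ← h2, ← Matrix.mulVec_mulVec, uMat_e0]
  exact ⟨_, eq_smul_e0 hn h1⟩

/-- a `p`-subgroup containing the regular unipotent element fixes the first basis vector -/
theorem fix_e0_of_pGroup [Fintype F] {p : ℕ} [hp : Fact p.Prime] [CharP F p] (hn : 0 < n)
    {P : Subgroup (GL (Fin n) F)} (hP : IsPGroup p ↥P) (hu : uGL F n ∈ P) {h : GL (Fin n) F} (hh : h ∈ P) :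
    (h : Matrix (Fin n) (Fin n) F) *ᵥ e0 F n = e0 F n := by
  obtain ⟨v, hv0, hv⟩ := exists_fixed_vector hn hP
  have h1 := eq_smul_e0 hn (hv _ hu)
  have h2 : v ⟨0, hn⟩ ≠ 0 := by
    intro e
    rw [e, zero_smul] at h1
    exact hv0 h1
  have h3 := hv h hh
  rw [h1, Matrix.mulVec_smul] at h3
  have := congrArg (fun w => (v ⟨0, hn⟩)⁻¹ • w) h3
  simpa [smul_smul, inv_mul_cancel₀ h2] using this

/-- A nilpotent subgroup containing the regular unipotent element stabilizes the first line. -/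
theorem nilpotent_le_lineStab [Fintype F] (hn : 0 < n) {N : Subgroup (GL (Fin n) F)}
    (hN : Group.IsNilpotent ↥N) (hu : uGL F n ∈ N) : N ≤ lineStab (e0 F n) := by
  obtain ⟨p, hp⟩ := CharP.exists F
  have hpp : p.Prime := CharP.char_is_prime F p
  have : Fact p.Prime := ⟨hpp⟩
  refine nilpotent_le (p := p) hN hu (uMat_pow hn) _ (fun h hc => mem_lineStab_of_commute hn hc) ?_
  intro P hP huP h hh
  refine ⟨1, ?_⟩
  rw [fix_e0_of_pGroup hn hP huP hh]
  simp

/-- the lower transvection, in the last two coordinates -/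
def mSL (F : Type*) [Field F] (n : ℕ) : Matrix.SpecialLinearGroup (Fin (n + 2)) F :=
  ⟨Matrix.transvection (Fin.last (n + 1)) (Fin.castSucc (Fin.last n)) 1,
    Matrix.det_transvection_of_ne _ _ (by
      intro e
      have := congrArg Fin.val e
      simp at this) 1⟩

/-- the lower transvection -/
def mGL (F : Type*) [Field F] (n : ℕ) : GL (Fin (n + 2)) F := Matrix.SpecialLinearGroup.toGL (mSL F n)

theorem mGL_val : ((mGL F n : GL (Fin (n + 2)) F) : Matrix (Fin (n + 2)) (Fin (n + 2)) F) =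
    Matrix.transvection (Fin.last (n + 1)) (Fin.castSucc (Fin.last n)) 1 := rfl

/-- No nilpotent subgroup contains the regular unipotent element and its conjugate by the lower transvection. -/
theorem not_nilpotent_pair [Fintype F] {N : Subgroup (GL (Fin (n + 2)) F)} (hN : Group.IsNilpotent ↥N)
    (h1 : uGL F (n + 2) ∈ N) (h2 : mGL F n * uGL F (n + 2) * (mGL F n)⁻¹ ∈ N) : False := by
  obtain ⟨p, hp⟩ := CharP.exists F
  have hpp : p.Prime := CharP.char_is_prime F p
  have : Fact p.Prime := ⟨hpp⟩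
  obtain ⟨P, hP, -, hPm⟩ := exists_pGroup (p := p) hN
  obtain ⟨k, hk⟩ := uMat_pow (F := F) (p := p) (n := n + 2) (by omega)
  have hu : uGL F (n + 2) ∈ P := hPm _ h1 ⟨k, hk⟩
  have hu' : mGL F n * uGL F (n + 2) * (mGL F n)⁻¹ ∈ P := by
    refine hPm _ h2 ⟨k, ?_⟩
    rw [conj_pow, hk]; group
  set g := (uGL F (n + 2))⁻¹ * (mGL F n * uGL F (n + 2) * (mGL F n)⁻¹) with hg
  have hgP : g ∈ P := mul_mem (inv_mem hu) hu'
  obtain ⟨j, hj⟩ := hP ⟨g, hgP⟩
  have hj' : g ^ p ^ j = 1 := congrArg Subtype.val hj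
  set D : Matrix (Fin (n + 2)) (Fin (n + 2)) F := (g : Matrix (Fin (n + 2)) (Fin (n + 2)) F) - 1 with hD
  have hDn : D ^ p ^ j = 0 := by
    rw [hD, sub_pow_char_pow_of_commute (p := p) _ (Commute.one_right _), one_pow, sub_eq_zero,
      ← Units.val_pow_eq_pow_val, hj', Units.val_one]
  -- row vectors
  set a : Fin (n + 2) → F := Pi.single (Fin.castSucc (Fin.last n)) 1 with ha
  set b : Fin (n + 2) → F := Pi.single (Fin.last (n + 1)) 1 with hb
  have hab : (Fin.castSucc (Fin.last n) : Fin (n + 2)) ≠ Fin.last (n + 1) := by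
    intro e
    have := congrArg Fin.val e
    simp at this
  have hau : a ᵥ* uMat F (n + 2) = a + b := by
    rw [ha, Matrix.single_one_vecMul]
    ext i
    by_cases h1 : Fin.castSucc (Fin.last n) = i
    · subst h1
      simp [uMat, hb, hab]
    · by_cases h2 : Fin.last (n + 1) = i
      · subst h2
        simp [uMat, hb, hab]
      · have h3 : ¬ (((Fin.castSucc (Fin.last n) : Fin (n + 2)) : ℕ) + 1 = i) := by
          intro e
          apply h2
          apply Fin.ext
          simpa using e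
        rw [Pi.add_apply, hb, Pi.single_eq_of_ne (fun e => h1 e.symm), Pi.single_eq_of_ne (fun e => h2 e.symm)]
        simp only [Matrix.row, uMat, if_neg h1, if_neg h3, add_zero]
  have hbu : b ᵥ* uMat F (n + 2) = b := by
    rw [hb, Matrix.single_one_vecMul]
    ext i
    by_cases h2 : Fin.last (n + 1) = i
    · subst h2
      simp [uMat]
    · have h3 : ¬ (((Fin.last (n + 1) : Fin (n + 2)) : ℕ) + 1 = i) := by
        intro e
        have := i.2
        simp at e
        omega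
      rw [Pi.single_eq_of_ne (fun e => h2 e.symm)]
      simp only [Matrix.row, uMat, if_neg h2, if_neg h3]
  have ham : a ᵥ* Matrix.transvection (Fin.last (n + 1)) (Fin.castSucc (Fin.last n)) 1 = a := by
    rw [Matrix.transvection, Matrix.vecMul_add, Matrix.vecMul_one, ha, Matrix.single_one_vecMul]
    ext i
    simp [Matrix.single, hab.symm]
  have hbm : b ᵥ* Matrix.transvection (Fin.last (n + 1)) (Fin.castSucc (Fin.last n)) 1 = b + a := by
    rw [Matrix.transvection, Matrix.vecMul_add, Matrix.vecMul_one, hb, Matrix.single_one_vecMul]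
    congr 1
    ext i
    rw [ha]
    simp [Matrix.single, Pi.single_apply, eq_comm]
  have hinv : ∀ (h : GL (Fin (n + 2)) F) (x y : Fin (n + 2) → F), x ᵥ* (h : Matrix (Fin (n + 2)) (Fin (n + 2)) F) = y →
      y ᵥ* ((h⁻¹ : GL (Fin (n + 2)) F) : Matrix (Fin (n + 2)) (Fin (n + 2)) F) = x := by
    intro h x y e
    rw [← e, Matrix.vecMul_vecMul, ← Units.val_mul, mul_inv_cancel, Units.val_one, Matrix.vecMul_one]
  have hbu' := hinv (uGL F (n + 2)) b b hbu
  have hau' := hinv (uGL F (n + 2)) (a - b) a (by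
    rw [uGL_val, Matrix.sub_vecMul, hau, hbu, add_sub_cancel_right])
  have ham' := hinv (mGL F n) a a ham
  have hbm' := hinv (mGL F n) (b - a) b (by
    rw [mGL_val, Matrix.sub_vecMul, ham, hbm, add_sub_cancel_right])
  have hgv : ∀ x : Fin (n + 2) → F, x ᵥ* (g : Matrix (Fin (n + 2)) (Fin (n + 2)) F) =
      (((x ᵥ* ((uGL F (n + 2))⁻¹ : GL (Fin (n + 2)) F).1) ᵥ* (mGL F n).1) ᵥ* (uGL F (n + 2)).1) ᵥ*
        ((mGL F n)⁻¹ : GL (Fin (n + 2)) F).1 := by
    intro x
    rw [hg, Units.val_mul, Units.val_mul, Units.val_mul, Matrix.vecMul_vecMul, Matrix.vecMul_vecMul,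
      Matrix.vecMul_vecMul]
    congr 1
    simp only [Matrix.mul_assoc]
  have hum : (uGL F (n + 2)).1 = uMat F (n + 2) := rfl
  have hmm : (mGL F n).1 = Matrix.transvection (Fin.last (n + 1)) (Fin.castSucc (Fin.last n)) 1 := rfl
  have hbg : b ᵥ* (g : Matrix (Fin (n + 2)) (Fin (n + 2)) F) = b + b - a := by
    rw [hgv, hbu', hmm, hbm, Matrix.add_vecMul, hum, hau, hbu, Matrix.add_vecMul, Matrix.add_vecMul, ham', hbm']
    abel
  have hag : a ᵥ* (g : Matrix (Fin (n + 2)) (Fin (n + 2)) F) = a - b := by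
    have e1 : a - (b + a) = -b := by abel
    rw [hgv, hau', hmm, Matrix.sub_vecMul, ham, hbm, hum, e1, Matrix.neg_vecMul, hbu, Matrix.neg_vecMul, hbm']
    abel
  have hbD : b ᵥ* D = b - a := by
    rw [hD, Matrix.vecMul_sub, Matrix.vecMul_one, hbg]; abel
  have haD : a ᵥ* D = - b := by
    rw [hD, Matrix.vecMul_sub, Matrix.vecMul_one, hag]; abel
  have key : ∀ i : ℕ, a ᵥ* D ^ i = 0 → b ᵥ* D ^ i = 0 → False := by
    intro i
    induction i with
    | zero =>
      intro _ h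
      rw [pow_zero, Matrix.vecMul_one, hb] at h
      have := congrFun h (Fin.last (n + 1))
      simp at this
    | succ i ih =>
      intro h1 h2
      rw [pow_succ', ← Matrix.vecMul_vecMul, haD, Matrix.neg_vecMul, neg_eq_zero] at h1
      rw [pow_succ', ← Matrix.vecMul_vecMul, hbD, Matrix.sub_vecMul, h1, zero_sub, neg_eq_zero] at h2
      exact ih h2 h1
  exact key (p ^ j) (by rw [hDn, Matrix.vecMul_zero]) (by rw [hDn, Matrix.vecMul_zero])

end matrices

end Cfsg.Agent.H473
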