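import Mathlib

/-!
# Base lemmas on `3`-subgroups for the `3`-local characterization of `G₂(3)` (S3393, helper473)
-/

set_option autoImplicit false

namespace Cfsg.Agent.H473.GTwoBase

open Subgroup

variable {G : Type*} [Group G]

/-- products of two subgroups, the first normalizing the second -/
theorem mem_sup_norm {A B : Subgroup G} (h : ∀ a ∈ A, ∀ b ∈ B, a * b * a⁻¹ ∈ B) {x : G} (hx : x ∈ A ⊔ B) :
    ∃ a ∈ A, ∃ b ∈ B, x = a * b := by
  let K : Subgroup G :=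
    { carrier := {x | ∃ a ∈ A, ∃ b ∈ B, x = a * b}
      one_mem' := ⟨1, A.one_mem, 1, B.one_mem, by simp⟩
      mul_mem' := by
        rintro _ _ ⟨a, ha, b, hb, rfl⟩ ⟨c, hc, d, hd, rfl⟩
        refine ⟨a * c, A.mul_mem ha hc, c⁻¹ * b * c * d, B.mul_mem ?_ hd, by group⟩
        have := h c⁻¹ (A.inv_mem hc) b hb
        rwa [inv_inv] at this
      inv_mem' := by
        rintro _ ⟨a, ha, b, hb, rfl⟩
        refine ⟨a⁻¹, A.inv_mem ha, a * b⁻¹ * a⁻¹, h a ha _ (B.inv_mem hb), by group⟩ }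
  have hK : A ⊔ B ≤ K := sup_le (fun a ha => ⟨a, ha, 1, B.one_mem, by simp⟩) fun b hb => ⟨1, A.one_mem, b, hb, by simp⟩
  exact hK hx

theorem mem_sup_comm {A B : Subgroup G} (h : ∀ a ∈ A, ∀ b ∈ B, a * b = b * a) {x : G} (hx : x ∈ A ⊔ B) :
    ∃ a ∈ A, ∃ b ∈ B, x = a * b :=
  mem_sup_norm (fun a ha b hb => by rw [h a ha b hb, mul_inv_cancel_right]; exact hb) hx

theorem card_mul_relIndex {A C : Subgroup G} (hA : A ≤ C) : A.relIndex C * Nat.card A = Nat.card C := by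
  have := relIndex_mul_relIndex ⊥ A C bot_le hA
  rw [relIndex_bot_left, relIndex_bot_left] at this
  rw [mul_comm]
  exact this

theorem card_mul_le [Finite G] {A B C : Subgroup G} (hA : A ≤ C) (hB : B ≤ C) :
    Nat.card A * Nat.card B ≤ Nat.card (A ⊓ B : Subgroup G) * Nat.card C := by
  have h1 : (A ⊓ B).relIndex C ≤ A.relIndex C * B.relIndex C := relIndex_inf_le
  have hA' := card_mul_relIndex hA
  have hB' := card_mul_relIndex hB
  have hAB := card_mul_relIndex (A := A ⊓ B) (C := C) (inf_le_left.trans hA)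
  have hC : 0 < Nat.card C := Nat.card_pos
  have h2 : Nat.card C * (Nat.card A * Nat.card B) ≤ Nat.card C * (Nat.card (A ⊓ B : Subgroup G) * Nat.card C) := by
    calc Nat.card C * (Nat.card A * Nat.card B)
        = (A ⊓ B).relIndex C * Nat.card (A ⊓ B : Subgroup G) * (Nat.card A * Nat.card B) := by rw [hAB]
      _ ≤ A.relIndex C * B.relIndex C * Nat.card (A ⊓ B : Subgroup G) * (Nat.card A * Nat.card B) := by gcongr
      _ = (A.relIndex C * Nat.card A) * (B.relIndex C * Nat.card B) * Nat.card (A ⊓ B : Subgroup G) := by ring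
      _ = Nat.card C * (Nat.card (A ⊓ B : Subgroup G) * Nat.card C) := by rw [hA', hB']; ring
  exact Nat.le_of_mul_le_mul_left h2 hC

/-- a `p`-subgroup fixes an element modulo `D` -/
theorem exists_fix [Finite G] {p : ℕ} [Fact p.Prime] {P D X : Subgroup G} (hP : IsPGroup p P)
    (hDX : D ≤ X) (hXP : X ≤ P) (hD : ∀ s ∈ P, ∀ d ∈ D, s * d * s⁻¹ ∈ D) (hX : ∀ s ∈ P, ∀ x ∈ X, s * x * s⁻¹ ∈ X)
    (hne : D ≠ X) : ∃ x ∈ X, x ∉ D ∧ ∀ s ∈ P, s * x * s⁻¹ * x⁻¹ ∈ D := by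
  have hDn : (D.subgroupOf P).Normal :=
    ⟨fun d hd s => mem_subgroupOf.2 (hD s s.2 d (mem_subgroupOf.1 hd))⟩
  let N : Subgroup (P ⧸ D.subgroupOf P) := (X.subgroupOf P).map (QuotientGroup.mk' (D.subgroupOf P))
  have hNn : N.Normal := by
    refine Normal.map ⟨fun d hd s => mem_subgroupOf.2 (hX s s.2 d (mem_subgroupOf.1 hd))⟩ _
      (QuotientGroup.mk'_surjective _)
  have hPq : IsPGroup p (P ⧸ D.subgroupOf P) := hP.to_quotient _
  have hN : N ≠ ⊥ := by
    intro h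
    apply hne
    apply le_antisymm hDX
    intro x hx
    have h1 : QuotientGroup.mk' (D.subgroupOf P) ⟨x, hXP hx⟩ ∈ N := ⟨_, mem_subgroupOf.2 hx, rfl⟩
    rw [h, mem_bot] at h1
    exact mem_subgroupOf.1 ((QuotientGroup.eq_one_iff _).1 h1)
  have hcent : N ⊓ center (P ⧸ D.subgroupOf P) ≠ ⊥ := by
    let _ : Nontrivial N := (N.nontrivial_iff_ne_bot).2 hN
    have h3 : p ∣ Nat.card N := by
      obtain ⟨k, hk⟩ := (IsPGroup.iff_card.1 (hPq.to_subgroup N))
      have : k ≠ 0 := by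
        rintro rfl
        have := Finite.one_lt_card (α := N)
        rw [pow_zero] at hk
        omega
      rw [hk]
      exact dvd_pow_self _ this
    let _ : MulAction (P ⧸ D.subgroupOf P) N :=
      MulAction.compHom N (MulAut.conjNormal (G := P ⧸ D.subgroupOf P) (H := N))
    have h1 := hPq.card_modEq_card_fixedPoints N
    have h2 : p ∣ Nat.card (MulAction.fixedPoints (P ⧸ D.subgroupOf P) N) :=
      (Nat.modEq_zero_iff_dvd.1 (h1.symm.trans (Nat.modEq_zero_iff_dvd.2 h3)))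
    intro hbot
    have h4 : Nat.card (MulAction.fixedPoints (P ⧸ D.subgroupOf P) N) = 1 := by
      rw [Nat.card_eq_one_iff_unique]
      refine ⟨⟨fun a b => ?_⟩, ⟨⟨1, fun g => ?_⟩⟩⟩
      · have key : ∀ a : MulAction.fixedPoints (P ⧸ D.subgroupOf P) N, a.1 = 1 := by
          intro a
          have h5 : (a.1 : P ⧸ D.subgroupOf P) ∈ N ⊓ center (P ⧸ D.subgroupOf P) := by
            refine ⟨a.1.2, mem_center_iff.2 fun g => ?_⟩
            have h6 := congrArg Subtype.val (a.2 g)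
            have h7 : g * (a.1 : P ⧸ D.subgroupOf P) * g⁻¹ = a.1 := h6
            rwa [mul_inv_eq_iff_eq_mul] at h7
          rw [hbot, mem_bot] at h5
          exact Subtype.ext h5
        exact Subtype.ext ((key a).trans (key b).symm)
      · apply Subtype.ext
        change g * 1 * g⁻¹ = (1 : P ⧸ D.subgroupOf P)
        group
    rw [h4] at h2
    exact (Fact.out : p.Prime).one_lt.ne' (Nat.dvd_one.1 h2)
  obtain ⟨y, hy, hy1⟩ : ∃ y ∈ N ⊓ center (P ⧸ D.subgroupOf P), y ≠ 1 := by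
    by_contra hcon
    push Not at hcon
    exact hcent (eq_bot_iff_forall _ |>.2 hcon)
  obtain ⟨⟨x, hxX, rfl⟩, hyc⟩ := hy
  refine ⟨x, mem_subgroupOf.1 hxX, fun hxD => hy1 ((QuotientGroup.eq_one_iff _).2 (mem_subgroupOf.2 hxD)), ?_⟩
  intro s hs
  have h1 := mem_center_iff.1 hyc (QuotientGroup.mk' (D.subgroupOf P) ⟨s, hs⟩)
  rw [← map_mul, ← map_mul] at h1
  have h2 : QuotientGroup.mk' (D.subgroupOf P) (⟨s, hs⟩ * x * ⟨s, hs⟩⁻¹ * x⁻¹) = 1 := by
    rw [map_mul, map_mul, map_inv, map_inv, h1, map_mul, mul_inv_cancel_right, mul_inv_cancel]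
  exact mem_subgroupOf.1 ((QuotientGroup.eq_one_iff _).1 h2)

/-- the elements of `X` centralized by `P` modulo `D` -/
def fixMod (P D X : Subgroup G) (hDX : ∀ x ∈ X, ∀ d ∈ D, x * d * x⁻¹ ∈ D) :
    Subgroup G where
  carrier := {x | x ∈ X ∧ ∀ s ∈ P, s * x * s⁻¹ * x⁻¹ ∈ D}
  one_mem' := ⟨X.one_mem, fun s _ => by
    rw [mul_one, mul_inv_cancel, inv_one, mul_one]; exact D.one_mem⟩
  mul_mem' := by
    rintro x y ⟨hx, hx'⟩ ⟨hy, hy'⟩
    refine ⟨X.mul_mem hx hy, fun s hs => ?_⟩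
    have : s * (x * y) * s⁻¹ * (x * y)⁻¹ = (s * x * s⁻¹ * x⁻¹) * (x * (s * y * s⁻¹ * y⁻¹) * x⁻¹) := by group
    rw [this]
    exact D.mul_mem (hx' s hs) (hDX x hx _ (hy' s hs))
  inv_mem' := by
    rintro x ⟨hx, hx'⟩
    refine ⟨X.inv_mem hx, fun s hs => ?_⟩
    have : s * x⁻¹ * s⁻¹ * x⁻¹⁻¹ = x⁻¹ * (s * x * s⁻¹ * x⁻¹)⁻¹ * x⁻¹⁻¹ := by group
    rw [this]
    exact hDX _ (X.inv_mem hx) _ (D.inv_mem (hx' s hs))

/-- a `p`-group centralizes a section of order `p` -/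
theorem comm_mem_of_card [Finite G] {p : ℕ} [hp : Fact p.Prime] {P D X : Subgroup G} (hP : IsPGroup p P)
    (hDX : D ≤ X) (hXP : X ≤ P) (hD : ∀ s ∈ P, ∀ d ∈ D, s * d * s⁻¹ ∈ D) (hX : ∀ s ∈ P, ∀ x ∈ X, s * x * s⁻¹ ∈ X)
    (hcard : Nat.card X = p * Nat.card D) : ∀ s ∈ P, ∀ x ∈ X, s * x * s⁻¹ * x⁻¹ ∈ D := by
  have hne : D ≠ X := by
    rintro rfl
    have h1 : 0 < Nat.card D := Nat.card_pos
    have h2 := hp.out.one_lt
    nlinarith
  obtain ⟨x, hx, hxD, hfx⟩ := exists_fix hP hDX hXP hD hX hne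
  let K := fixMod P D X fun x hx => hD x (hXP hx)
  have hDK : D ≤ K := fun d hd => ⟨hDX hd, fun s hs => D.mul_mem (hD s hs d hd) (D.inv_mem hd)⟩
  have hKX : K ≤ X := fun x hx => hx.1
  have h1 := card_mul_relIndex hDK
  have h2 := card_mul_relIndex hKX
  have hlt : Nat.card D < Nat.card K := by
    refine lt_of_le_of_ne (Nat.le_of_dvd Nat.card_pos (card_dvd_of_le hDK)) fun h => ?_
    have : D = K := eq_of_le_of_card_ge hDK h.ge
    exact hxD (this ▸ (⟨hx, hfx⟩ : x ∈ K))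
  have h3 : K.relIndex X * D.relIndex K = p := by
    have h4 : (K.relIndex X * D.relIndex K) * Nat.card D = p * Nat.card D := by
      rw [mul_assoc, h1, h2, hcard]
    exact Nat.eq_of_mul_eq_mul_right Nat.card_pos h4
  have h5 : D.relIndex K ≠ 1 := by
    intro h
    rw [h, one_mul] at h1
    omega
  have h6 : K.relIndex X = 1 := by
    rcases (Nat.dvd_prime hp.out).1 (Dvd.intro_left _ h3) with h | h
    · exact absurd h h5
    · rw [h] at h3
      exact Nat.eq_of_mul_eq_mul_right hp.out.pos (h3.trans (one_mul p).symm)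
  have h7 : X ≤ K := relIndex_eq_one.1 h6
  intro s hs x hx
  exact (h7 hx).2 s hs

/-- an element inverted up to squares: elements of odd order -/
theorem mem_of_sq_mem [Finite G] {A X : Subgroup G} (hA : ¬ 2 ∣ Nat.card A) {x : G} (hx : x ∈ A) (h : x * x ∈ X) :
    x ∈ X := by
  obtain ⟨k, hk⟩ : ∃ k, Nat.card A = 2 * k + 1 := ⟨Nat.card A / 2, by omega⟩
  have h1 : x ^ (Nat.card A) = 1 := by
    have := pow_card_eq_one' (x := (⟨x, hx⟩ : A))
    exact congrArg Subtype.val this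
  have h2 : x = (x * x) ^ (k + 1) := by
    rw [← pow_two, ← pow_mul, show 2 * (k + 1) = Nat.card A + 1 by omega, pow_succ, h1, one_mul]
  rw [h2]
  exact X.pow_mem h _

end Cfsg.Agent.H473.GTwoBase
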