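import Cfsg.Agent.H473.GTwoMain

/-!
# The criteria on a finite simple group used for `G₂(3)` (S3393, helper473)
-/

set_option autoImplicit false
set_option linter.unusedSectionVars false

namespace Cfsg.Agent.H473

/-- `3`-local properties of `G₂(3)` -/
structure CritG (G : Type*) [Group G] : Prop where
  /-- the number of Sylow `3`-subgroups -/
  mod : Nat.card G % 2187 = 729
  dvd : 11664 ∣ Nat.card G
  /-- no abelian subgroup of order `3^5` -/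
  ab : ∀ A : Subgroup G, (∀ a ∈ A, ∀ b ∈ A, a * b = b * a) → Nat.card A ≠ 243
  /-- no abelian subgroup of order `3^4` is inverted -/
  inv : ∀ A : Subgroup G, (∀ a ∈ A, ∀ b ∈ A, a * b = b * a) → Nat.card A = 81 →
    ∀ g : G, ¬ ∀ a ∈ A, g * a * g⁻¹ = a⁻¹
  /-- quadratic action on abelian subgroups of order `3^4` -/
  quad : ∀ A : Subgroup G, (∀ a ∈ A, ∀ b ∈ A, a * b = b * a) → Nat.card A = 81 → ∀ s : G, s ^ 3 = 1 →
    (∀ a ∈ A, s * a * s⁻¹ ∈ A) → ∀ a ∈ A, s * (s * a * s⁻¹ * a⁻¹) = (s * a * s⁻¹ * a⁻¹) * s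
  /-- no element of order 27 -/
  exp : ∀ g : G, orderOf g ≠ 27
  /-- the class of the Sylow subgroup is not two -/
  cls : ∀ P : Subgroup G, Nat.card P = 729 →
    ¬ ∀ x ∈ P, ∀ y ∈ P, ∀ z ∈ P, (x * y * x⁻¹ * y⁻¹) * z = z * (x * y * x⁻¹ * y⁻¹)

namespace GTwoMain

open Subgroup Cfsg.Agent.H473.GTwoBase Cfsg.Agent.H473.GTwoHalf Cfsg.Agent.H473.GTwoSide
open Cfsg.Agent.H473.GTwoSide.Side (W mem_W)
open scoped commutatorElement

variable {G : Type*} [Group G]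

variable {A₁ Q₁ Z₁ D₁ A₂ Q₂ Z₂ D₂ S : Subgroup G} {t₁ t₂ : G}

theorem comm_cj {g : G} {A : Subgroup G} (hA : ∀ a ∈ A, ∀ b ∈ A, a * b = b * a) :
    ∀ a ∈ cj g A, ∀ b ∈ cj g A, a * b = b * a := by
  rintro _ ⟨a, ha, rfl⟩ _ ⟨b, hb, rfl⟩
  rw [← map_mul, ← map_mul, hA a ha b hb]

theorem isPGroup_of_card_pow {A : Subgroup G} {n : ℕ} (h : Nat.card A = 3 ^ n) : IsPGroup 3 A := IsPGroup.of_card h

variable [Finite G]

namespace Amalg

/-- an abelian subgroup of `Q` of order at least 81 contains `Z`, and is not `Q` -/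
theorem Z_le {A Q Z D : Subgroup G} {t : G} (h : Side A Q Z D S t) {B : Subgroup G}
    (hB : ∀ a ∈ B, ∀ b ∈ B, a * b = b * a) (hBQ : B ≤ Q) (hc : 81 ≤ Nat.card B) : Z ≤ B ∧ Nat.card B = 81 := by
  let K : Subgroup G := Q ⊓ centralizer (B : Set G)
  have hBK : B ≤ K := fun b hb => ⟨hBQ hb, mem_centralizer_iff.2 fun a ha => hB a ha b hb⟩
  have hZK : Z ≤ K := fun z hz => ⟨h.ZQ hz, mem_centralizer_iff.2 fun a ha => h.comm hz (hBQ ha)⟩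
  have hKQ : K ≠ Q := by
    intro hKQ
    have h1 : B ≤ Z := by
      intro b hb
      rw [h.hZ]
      refine ⟨hBQ hb, fun y hy => ?_⟩
      rw [← hKQ] at hy
      exact (mem_centralizer_iff.1 hy.2 b hb).symm
    have h2 := Nat.le_of_dvd Nat.card_pos (card_dvd_of_le h1)
    rw [h.cZ] at h2
    omega
  have hK : Nat.card K ≤ 81 := by
    obtain ⟨x, hx, hxK⟩ := SetLike.not_le_iff_exists.1 (fun hle : Q ≤ K => hKQ (le_antisymm inf_le_left hle))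
    have h3 : 3 * Nat.card K ≤ Nat.card Q := h.card_lt (inf_le_left : K ≤ Q) hx hxK h.QS
    rw [h.cQ] at h3
    omega
  have h4 : B = K := eq_of_le_of_card_ge hBK (by omega)
  exact ⟨h4 ▸ hZK, by rw [← h4] at hK; omega⟩

theorem no_abelian (h : Amalg A₁ Q₁ Z₁ D₁ A₂ Q₂ Z₂ D₂ S t₁ t₂) {A : Subgroup G}
    (hA : ∀ a ∈ A, ∀ b ∈ A, a * b = b * a) (hc : Nat.card A = 243) : False := by
  obtain ⟨g, hg⟩ := h.exists_conj_le (isPGroup_of_card_pow (n := 5) (by rw [hc]; norm_num))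
  have hc' := card_cj g A
  rw [hc] at hc'
  rcases h.h₁.le_or_le h.h₂ h.ne hg (comm_cj hA) (by omega) with h1 | h1
  · have := (Z_le h.s₁ (comm_cj hA) h1 (by omega)).2
    omega
  · have := (Z_le h.s₂ (comm_cj hA) h1 (by omega)).2
    omega

theorem no_inv_aux {A Q Z D : Subgroup G} {t : G} (h : Side A Q Z D S t) {B : Subgroup G} (hZB : Z ≤ B) (g : G)
    (hg : ∀ a ∈ B, g * a * g⁻¹ = a⁻¹) : False := by
  have hDB : D ≤ B := h.DZ.trans hZB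
  have hgA : g ∈ A := by
    rw [← h.ND, mem_normalizer_iff]
    intro d
    constructor
    · intro hd
      rw [hg d (hDB hd)]
      exact D.inv_mem hd
    · intro hd
      have h1 := hg _ (hDB hd)
      have h2 : g * d * g⁻¹ = d⁻¹ := by
        have : g * (g * d * g⁻¹) * g⁻¹ = g * (d⁻¹) * g⁻¹ := by rw [h1]; group
        exact mul_left_cancel (mul_right_cancel this)
      rw [h2] at hd
      exact inv_mem_iff.1 hd
  have hgt : g * t ∈ Q := by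
    refine h.k2 _ (A.mul_mem hgA h.tA) fun z hz => ?_
    have h1 := h.invZ hz
    have htz := h.Zn t h.tA z hz
    have h2 : g * t * z * (g * t)⁻¹ * z⁻¹ = (t * z * t⁻¹)⁻¹ * z⁻¹ := by
      have : g * t * z * (g * t)⁻¹ = g * (t * z * t⁻¹) * g⁻¹ := by group
      rw [this, hg _ (hZB htz)]
    rw [h2, ← mul_inv_rev]
    refine D.inv_mem ?_
    rw [← h.comm hz (h.ZQ htz)]
    exact h1
  have h3 : D ≤ ⊥ := by
    intro d hd
    have h4 := h.comm (h.DZ hd) hgt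
    have h5 := hg d (hDB hd)
    have h6 := h.tD d hd
    have h7 : g * d * g⁻¹ = d := by
      calc g * d * g⁻¹ = g * (d * t) * t⁻¹ * g⁻¹ := by group
        _ = (g * t * d) * (g * t)⁻¹ := by rw [← h6]; group
        _ = d := by rw [h4, mul_inv_cancel_right]
    refine h.mem_of_sq (h.DS hd) ?_
    rw [mem_bot]
    nth_rewrite 1 [← h7]
    rw [h5, inv_mul_cancel]
  have h4 := Nat.le_of_dvd Nat.card_pos (card_dvd_of_le h3)
  rw [h.cD, card_bot] at h4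
  omega

theorem no_inv (h : Amalg A₁ Q₁ Z₁ D₁ A₂ Q₂ Z₂ D₂ S t₁ t₂) {A : Subgroup G}
    (hA : ∀ a ∈ A, ∀ b ∈ A, a * b = b * a) (hc : Nat.card A = 81) (x : G) (hx : ∀ a ∈ A, x * a * x⁻¹ = a⁻¹) :
    False := by
  obtain ⟨g, hg⟩ := h.exists_conj_le (isPGroup_of_card_pow (n := 4) (by rw [hc]; norm_num))
  have hc' := card_cj g A
  rw [hc] at hc'
  have hx' : ∀ a ∈ cj g A, (g * x * g⁻¹) * a * (g * x * g⁻¹)⁻¹ = a⁻¹ := by
    rintro _ ⟨a, ha, rfl⟩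
    change (g * x * g⁻¹) * (g * a * g⁻¹) * (g * x * g⁻¹)⁻¹ = (g * a * g⁻¹)⁻¹
    have e : (g * x * g⁻¹) * (g * a * g⁻¹) * (g * x * g⁻¹)⁻¹ = g * (x * a * x⁻¹) * g⁻¹ := by group
    rw [e, hx a ha]
    group
  rcases h.h₁.le_or_le h.h₂ h.ne hg (comm_cj hA) (by omega) with h1 | h1
  · exact no_inv_aux h.s₁ (Z_le h.s₁ (comm_cj hA) h1 (by omega)).1 _ hx'
  · exact no_inv_aux h.s₂ (Z_le h.s₂ (comm_cj hA) h1 (by omega)).1 _ hx'

theorem quad_aux (h : Amalg A₁ Q₁ Z₁ D₁ A₂ Q₂ Z₂ D₂ S t₁ t₂) {A : Subgroup G}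
    (hA : ∀ a ∈ A, ∀ b ∈ A, a * b = b * a) (hc : Nat.card A = 81) (hAQ : A ≤ Q₁) {s : G} (hs : s ∈ S)
    (hsA : ∀ a ∈ A, s * a * s⁻¹ ∈ A) {a : G} (ha : a ∈ A) : s * (s * a * s⁻¹ * a⁻¹) = (s * a * s⁻¹ * a⁻¹) * s := by
  have : Fact (Nat.Prime 3) := ⟨Nat.prime_three⟩
  by_cases hsQ : s ∈ Q₁
  · exact h.s₁.comm_D hs (h.s₁.com hsQ (hAQ ha))
  · have hZA := (Z_le h.s₁ hA hAQ (by omega)).1
    have hAS : A ≤ S := hAQ.trans h.s₁.QS
    -- the group generated by `s` and `A`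
    let P : Subgroup G := S ⊓ normalizer (A : Set G)
    have hsP : s ∈ P := by
      refine ⟨hs, ?_⟩
      have h1 : cj s A ≤ A := by
        rintro _ ⟨a, ha, rfl⟩
        exact hsA a ha
      have h2 : cj s A = A := eq_of_le_of_card_ge h1 (card_cj s A).ge
      change s ∈ normalizer (A : Set G)
      rw [mem_normalizer_iff]
      intro b
      refine ⟨hsA b, fun hb => ?_⟩
      rw [← h2, mem_cj] at hb
      have e : s⁻¹ * (s * b * s⁻¹) * s = b := by group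
      rwa [e] at hb
    have hPp : IsPGroup 3 P := h.s₁.pS.to_le inf_le_left
    have hAP : A ≤ P := le_inf hAS le_normalizer
    have h3 := comm_mem_of_card hPp hZA hAP
      (fun x hx z hz => h.s₁.Zn x (h.s₁.SA hx.1) z hz)
      (fun x hx b hb => (mem_normalizer_iff.1 hx.2 b).1 hb)
      (by rw [hc, h.s₁.cZ]) s hsP a ha
    have h4 := h.h₁.mem_R_of_com h.h₂ h.ne hs hsQ (hAQ ha) h3
    have h5 := h.h₁.com_R h.h₂ h.ne h4 hs
    exact (mem_W.1 h5).2 s hs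

theorem quad (h : Amalg A₁ Q₁ Z₁ D₁ A₂ Q₂ Z₂ D₂ S t₁ t₂) {A : Subgroup G}
    (hA : ∀ a ∈ A, ∀ b ∈ A, a * b = b * a) (hc : Nat.card A = 81) {s : G} (hs : s ^ 3 = 1)
    (hsA : ∀ a ∈ A, s * a * s⁻¹ ∈ A) {a : G} (ha : a ∈ A) : s * (s * a * s⁻¹ * a⁻¹) = (s * a * s⁻¹ * a⁻¹) * s := by
  have : Fact (Nat.Prime 3) := ⟨Nat.prime_three⟩
  -- the `3`-group
  let P : Subgroup G := zpowers s ⊔ A
  have hnorm : ∀ x ∈ zpowers s, ∀ b ∈ A, x * b * x⁻¹ ∈ A := by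
    have h1 : zpowers s ≤ normalizer (A : Set G) := by
      rw [zpowers_le]
      have h1 : cj s A ≤ A := by
        rintro _ ⟨a, ha, rfl⟩
        exact hsA a ha
      have h2 : cj s A = A := eq_of_le_of_card_ge h1 (card_cj s A).ge
      rw [mem_normalizer_iff]
      intro b
      refine ⟨hsA b, fun hb => ?_⟩
      rw [← h2, mem_cj] at hb
      have e : s⁻¹ * (s * b * s⁻¹) * s = b := by group
      rwa [e] at hb
    intro x hx b hb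
    exact (mem_normalizer_iff.1 (h1 hx) b).1 hb
  have hzp : IsPGroup 3 (zpowers s) := by
    intro x
    refine ⟨1, ?_⟩
    obtain ⟨k, hk⟩ := mem_zpowers_iff.1 x.2
    apply Subtype.ext
    change (x : G) ^ (3 ^ 1) = 1
    rw [pow_one, ← hk, ← zpow_natCast, ← zpow_mul, mul_comm, zpow_mul, zpow_natCast, hs, one_zpow]
  have hAp : IsPGroup 3 A := isPGroup_of_card_pow (n := 4) (by rw [hc]; norm_num)
  have hP : IsPGroup 3 P := by
    refine hzp.to_sup_of_normal_right' hAp ?_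
    intro x hx
    rw [mem_normalizer_iff]
    intro b
    refine ⟨hnorm x hx b, fun hb => ?_⟩
    have h2 := hnorm x⁻¹ (inv_mem hx) _ hb
    have e : x⁻¹ * (x * b * x⁻¹) * x⁻¹⁻¹ = b := by group
    rwa [e] at h2
  obtain ⟨g, hg⟩ := h.exists_conj_le hP
  have hAg : cj g A ≤ S := by
    rintro _ ⟨b, hb, rfl⟩
    exact hg ⟨b, mem_sup_right hb, rfl⟩
  have hsg : g * s * g⁻¹ ∈ S := hg ⟨s, mem_sup_left (mem_zpowers s), rfl⟩
  have hc' := card_cj g A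
  rw [hc] at hc'
  have hsA' : ∀ b ∈ cj g A, (g * s * g⁻¹) * b * (g * s * g⁻¹)⁻¹ ∈ cj g A := by
    rintro _ ⟨b, hb, rfl⟩
    rw [mem_cj]
    change g⁻¹ * ((g * s * g⁻¹) * (g * b * g⁻¹) * (g * s * g⁻¹)⁻¹) * g ∈ A
    have e : g⁻¹ * ((g * s * g⁻¹) * (g * b * g⁻¹) * (g * s * g⁻¹)⁻¹) * g = s * b * s⁻¹ := by group
    rw [e]
    exact hsA b hb
  have hag : g * a * g⁻¹ ∈ cj g A := ⟨a, ha, rfl⟩
  have key : (g * s * g⁻¹) * ((g * s * g⁻¹) * (g * a * g⁻¹) * (g * s * g⁻¹)⁻¹ * (g * a * g⁻¹)⁻¹) =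
      ((g * s * g⁻¹) * (g * a * g⁻¹) * (g * s * g⁻¹)⁻¹ * (g * a * g⁻¹)⁻¹) * (g * s * g⁻¹) := by
    rcases h.h₁.le_or_le h.h₂ h.ne hAg (comm_cj hA) (by omega) with h1 | h1
    · exact h.quad_aux (comm_cj hA) hc' h1 hsg hsA' hag
    · exact h.swap.quad_aux (comm_cj hA) hc' h1 hsg hsA' hag
  have e1 : (g * s * g⁻¹) * ((g * s * g⁻¹) * (g * a * g⁻¹) * (g * s * g⁻¹)⁻¹ * (g * a * g⁻¹)⁻¹) =
      g * (s * (s * a * s⁻¹ * a⁻¹)) * g⁻¹ := by group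
  have e2 : ((g * s * g⁻¹) * (g * a * g⁻¹) * (g * s * g⁻¹)⁻¹ * (g * a * g⁻¹)⁻¹) * (g * s * g⁻¹) =
      g * ((s * a * s⁻¹ * a⁻¹) * s) * g⁻¹ := by group
  rw [e1, e2] at key
  exact mul_left_cancel (mul_right_cancel key)

/-- `x ^ 3 ∈ Q` -/
theorem cube_mem {A Q Z D : Subgroup G} {t : G} (h : Side A Q Z D S t) {x : G} (hx : x ∈ S) : x ^ 3 ∈ Q := by
  have hn : (Q.subgroupOf S).Normal := ⟨fun q hq s => mem_subgroupOf.2 (h.Qn s (h.SA s.2) q (mem_subgroupOf.1 hq))⟩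
  have hi : (Q.subgroupOf S).index = 3 := by
    have h1 := card_mul_index (Q.subgroupOf S)
    rw [Nat.card_congr (subgroupOfEquivOfLe h.QS).toEquiv, h.cQ, h.cS] at h1
    omega
  have h2 := pow_index_mem (Q.subgroupOf S) ⟨x, hx⟩
  rw [hi] at h2
  exact mem_subgroupOf.1 h2

theorem no_27 (h : Amalg A₁ Q₁ Z₁ D₁ A₂ Q₂ Z₂ D₂ S t₁ t₂) (x : G) : orderOf x ≠ 27 := by
  intro hx
  obtain ⟨g, hg⟩ := h.exists_conj_le (isPGroup_of_card_pow (A := zpowers x) (n := 3)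
    (by rw [Nat.card_zpowers, hx]; norm_num))
  have h1 : g * x * g⁻¹ ∈ S := hg ⟨x, mem_zpowers x, rfl⟩
  have h2 : (g * x * g⁻¹) ^ 3 ∈ Q₁ ⊓ Q₂ := ⟨cube_mem h.s₁ h1, cube_mem h.s₂ h1⟩
  have h3 := h.h₁.cube_R h.h₂ h.ne _ h2
  have h4 : x ^ 9 = 1 := by
    have e : (g * x * g⁻¹) ^ 3 * (g * x * g⁻¹) ^ 3 * (g * x * g⁻¹) ^ 3 = g * x ^ 9 * g⁻¹ := by
      rw [← pow_add, ← pow_add, conj_pow]
    rw [e] at h3
    rwa [mul_inv_eq_one, mul_eq_left] at h3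
  have h5 := orderOf_dvd_of_pow_eq_one h4
  rw [hx] at h5
  norm_num at h5

theorem no_class_two (h : Amalg A₁ Q₁ Z₁ D₁ A₂ Q₂ Z₂ D₂ S t₁ t₂) {P : Subgroup G} (hP : Nat.card P = 729)
    (hcl : ∀ x ∈ P, ∀ y ∈ P, ∀ z ∈ P, (x * y * x⁻¹ * y⁻¹) * z = z * (x * y * x⁻¹ * y⁻¹)) : False := by
  obtain ⟨g, hg⟩ := h.exists_conj_le (isPGroup_of_card_pow (A := P) (n := 6) (by rw [hP]; norm_num))
  have h1 : cj g P = S := eq_of_le_of_card_ge hg (by rw [card_cj, hP, h.s₁.cS])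
  have hcl' : ∀ x ∈ S, ∀ y ∈ S, ∀ z ∈ S, (x * y * x⁻¹ * y⁻¹) * z = z * (x * y * x⁻¹ * y⁻¹) := by
    rw [← h1]
    rintro _ ⟨x, hx, rfl⟩ _ ⟨y, hy, rfl⟩ _ ⟨z, hz, rfl⟩
    rw [← map_inv, ← map_inv, ← map_mul, ← map_mul, ← map_mul, ← map_mul, ← map_mul, hcl x hx y hy z hz]
  obtain ⟨s, hs, hsQ⟩ := h.h₁.exists_not h.h₂ h.ne
  obtain ⟨x, hx, hsx⟩ := h.h₁.fix s (h.s₂.QS hs) hsQ
  apply hsx
  apply h.s₁.WZ
  rw [mem_W]
  have hxS := h.s₁.QS hx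
  have hsS := h.s₂.QS hs
  exact ⟨S.mul_mem (S.mul_mem (S.mul_mem hsS hxS) (S.inv_mem hsS)) (S.inv_mem hxS),
    fun z hz => (hcl' s hsS x hxS z hz).symm⟩

theorem crit (h : Amalg A₁ Q₁ Z₁ D₁ A₂ Q₂ Z₂ D₂ S t₁ t₂) : CritG G where
  mod := h.card_mod
  dvd := h.card_dvd
  ab := fun _ hA hc => h.no_abelian hA hc
  inv := fun _ hA hc g hg => h.no_inv hA hc g hg
  quad := fun _ hA hc _ hs hsA _ ha => h.quad hA hc hs hsA ha
  exp := h.no_27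
  cls := fun _ hP hcl => h.no_class_two hP hcl

end Amalg

end GTwoMain

end Cfsg.Agent.H473
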