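import Cfsg.Agent.H473.GTwoBase

/-!
# The structure of the Sylow `3`-subgroup of `G₂(3)` from two halves (S3393, helper473)
-/

set_option autoImplicit false
set_option linter.unusedSectionVars false

namespace Cfsg.Agent.H473.GTwoHalf

open Subgroup Cfsg.Agent.H473.GTwoBase
open scoped commutatorElement

variable {G : Type*} [Group G]

/-- one half of the configuration inside `S`, with center `W` -/
structure Half (S W Q Z D : Subgroup G) : Prop where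
  cS : Nat.card S = 729
  cQ : Nat.card Q = 243
  cZ : Nat.card Z = 27
  cD : Nat.card D = 3
  cW : Nat.card W = 9
  hW : ∀ x, x ∈ W ↔ x ∈ S ∧ ∀ s ∈ S, s * x = x * s
  QS : Q ≤ S
  QN : ∀ s ∈ S, ∀ x ∈ Q, s * x * s⁻¹ ∈ Q
  hZ : ∀ x, x ∈ Z ↔ x ∈ Q ∧ ∀ y ∈ Q, y * x = x * y
  WZ : W ≤ Z
  DW : D ≤ W
  hD : D = ⁅Q, Q⁆
  el : ∀ z ∈ Z, z * z * z = 1
  cz : ∀ s ∈ S, s ∉ Q → ∀ z ∈ Z, s * z = z * s → z ∈ W
  fix : ∀ s ∈ S, s ∉ Q → ∃ x ∈ Q, s * x * s⁻¹ * x⁻¹ ∉ Z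

variable {S W Q Z D Q' Z' D' : Subgroup G}

namespace Half

theorem ZQ (h : Half S W Q Z D) : Z ≤ Q := fun x hx => ((h.hZ x).1 hx).1

theorem comm (h : Half S W Q Z D) {z x : G} (hz : z ∈ Z) (hx : x ∈ Q) : x * z = z * x := ((h.hZ z).1 hz).2 x hx

theorem com (h : Half S W Q Z D) {x y : G} (hx : x ∈ Q) (hy : y ∈ Q) : x * y * x⁻¹ * y⁻¹ ∈ D := by
  rw [h.hD]
  exact commutator_mem_commutator hx hy

theorem WS (h : Half S W Q Z D) {w s : G} (hw : w ∈ W) (hs : s ∈ S) : s * w = w * s := ((h.hW w).1 hw).2 s hs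

theorem ZN (h : Half S W Q Z D) : ∀ s ∈ S, ∀ z ∈ Z, s * z * s⁻¹ ∈ Z := by
  intro s hs z hz
  rw [h.hZ]
  refine ⟨h.QN s hs z (h.ZQ hz), fun y hy => ?_⟩
  have h1 := h.comm hz (h.QN s⁻¹ (S.inv_mem hs) y hy)
  rw [inv_inv] at h1
  calc y * (s * z * s⁻¹) = s * (s⁻¹ * y * s * z) * s⁻¹ := by group
    _ = s * (z * (s⁻¹ * y * s)) * s⁻¹ := by rw [h1]
    _ = s * z * s⁻¹ * y := by group

theorem fin (h : Half S W Q Z D) : Finite S := Nat.finite_of_card_ne_zero (by rw [h.cS]; norm_num)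

variable [Finite G]

/-- a subgroup of `S` of order at least 82 has order at least 243 -/
theorem card_dvd (h : Half S W Q Z D) {A : Subgroup G} (hA : A ≤ S) : ∃ k ≤ 6, Nat.card A = 3 ^ k := by
  have h1 := card_dvd_of_le hA
  rw [h.cS, show 729 = 3 ^ 6 by norm_num] at h1
  obtain ⟨k, hk, hk'⟩ := (Nat.dvd_prime_pow Nat.prime_three).1 h1
  exact ⟨k, hk, hk'⟩

theorem ne (h : Half S W Q Z D) (h' : Half S W Q' Z' D') (hD : D ≠ D') : Q ≠ Q' := by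
  rintro rfl
  exact hD (h.hD.trans h'.hD.symm)

theorem card_inf (h : Half S W Q Z D) (h' : Half S W Q' Z' D') (hD : D ≠ D') :
    Nat.card (Q ⊓ Q' : Subgroup G) = 81 := by
  have h1 := card_mul_le h.QS h'.QS
  rw [h.cQ, h'.cQ, h.cS] at h1
  obtain ⟨k, hk, hk'⟩ := h.card_dvd ((inf_le_left (b := Q')).trans h.QS)
  have h2 : Nat.card (Q ⊓ Q' : Subgroup G) ≤ 243 := by
    rw [← h.cQ]
    exact Nat.le_of_dvd Nat.card_pos (card_dvd_of_le inf_le_left)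
  have h3 : Nat.card (Q ⊓ Q' : Subgroup G) ≠ 243 := by
    intro h3
    have h4 : Q ⊓ Q' = Q := eq_of_le_of_card_ge inf_le_left (by rw [h3, h.cQ])
    have h5 : Q = Q' := eq_of_le_of_card_ge (inf_eq_left.1 h4) (by rw [h.cQ, h'.cQ])
    exact h.ne h' hD h5
  rw [hk'] at h1 h2 h3 ⊢
  interval_cases k <;> omega

/-- the product of the two halves is `S` -/
theorem sup_eq (h : Half S W Q Z D) (h' : Half S W Q' Z' D') (hD : D ≠ D') : Q ⊔ Q' = S := by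
  have hle : Q ⊔ Q' ≤ S := sup_le h.QS h'.QS
  have h1 := card_mul_le (le_sup_left : Q ≤ Q ⊔ Q') (le_sup_right : Q' ≤ Q ⊔ Q')
  rw [h.card_inf h' hD, h.cQ, h'.cQ] at h1
  refine eq_of_le_of_card_ge hle ?_
  rw [h.cS]
  omega

theorem exists_mul (h : Half S W Q Z D) (h' : Half S W Q' Z' D') (hD : D ≠ D') {s : G} (hs : s ∈ S) :
    ∃ x ∈ Q, ∃ y ∈ Q', s = x * y := by
  rw [← h.sup_eq h' hD] at hs
  exact mem_sup_norm (fun a ha b hb => h'.QN a (h.QS ha) b hb) hs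

/-- an element of `S` outside `Q`, in `Q'` -/
theorem exists_not (h : Half S W Q Z D) (h' : Half S W Q' Z' D') (hD : D ≠ D') : ∃ s ∈ Q', s ∉ Q := by
  by_contra hcon
  push Not at hcon
  have h1 : Q' ≤ Q := hcon
  exact h.ne h' hD (eq_of_le_of_card_ge h1 (by rw [h.cQ, h'.cQ])).symm

theorem D_eq_of_le (h : Half S W Q Z D) (h' : Half S W Q' Z' D') (hle : D ≤ D') : D = D' :=
  eq_of_le_of_card_ge hle (by rw [h.cD, h'.cD])

/-- `Z' ≤ Q` -/
theorem Z'_le (h : Half S W Q Z D) (h' : Half S W Q' Z' D') (hD : D ≠ D') : Z' ≤ Q := by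
  by_contra hcon
  obtain ⟨z', hz', hz'Q⟩ := SetLike.not_le_iff_exists.1 hcon
  have h1 : Z ⊓ Q' ≤ W := by
    intro z hz
    exact h.cz z' (h'.QS (h'.ZQ hz')) hz'Q z hz.1 (h'.comm hz' hz.2).symm
  have h2 : Z ⊓ (Q ⊓ Q') ≤ W := le_trans (inf_le_inf_left _ inf_le_right) h1
  have h3 : Nat.card (Z ⊓ (Q ⊓ Q') : Subgroup G) ≤ 9 := by
    rw [← h.cW]
    exact Nat.le_of_dvd Nat.card_pos (card_dvd_of_le h2)
  have h4 := card_mul_le (le_sup_left : Z ≤ Z ⊔ (Q ⊓ Q')) le_sup_right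
  rw [h.cZ, h.card_inf h' hD] at h4
  have h5 : Z ⊔ (Q ⊓ Q') = Q := by
    refine eq_of_le_of_card_ge (sup_le h.ZQ inf_le_left) ?_
    rw [h.cQ]
    nlinarith
  have h6 : D ≤ D' := by
    rw [h.hD, commutator_le]
    intro x hx y hy
    rw [← h5] at hx hy
    obtain ⟨z, hz, r, hr, rfl⟩ := mem_sup_comm (A := Z) (B := Q ⊓ Q') (fun a ha b hb => (h.comm ha hb.1).symm) hx
    obtain ⟨w, hw, s, hs, rfl⟩ := mem_sup_comm (A := Z) (B := Q ⊓ Q') (fun a ha b hb => (h.comm ha hb.1).symm) hy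
    have e : ⁅z * r, w * s⁆ = ⁅r, s⁆ := by
      have c1 : Commute z r := (h.comm hz hr.1).symm
      have c2 : Commute z s := (h.comm hz hs.1).symm
      have c3 : Commute z w := (h.comm hz (h.ZQ hw)).symm
      have c4 : Commute w r := (h.comm hw hr.1).symm
      have c5 : Commute w s := (h.comm hw hs.1).symm
      have c6 : Commute z (w * s) := c3.mul_right c2
      have c7 : Commute w (r * s * r⁻¹) := (c4.mul_right c5).mul_right c4.inv_right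
      rw [commutatorElement_def, commutatorElement_def]
      calc z * r * (w * s) * (z * r)⁻¹ * (w * s)⁻¹
          = z * (r * (w * s) * r⁻¹) * z⁻¹ * (w * s)⁻¹ := by group
        _ = (r * (w * s) * r⁻¹) * z * z⁻¹ * (w * s)⁻¹ := by
            rw [((c1.mul_right c6).mul_right c1.inv_right).eq]
        _ = (r * w) * s * r⁻¹ * s⁻¹ * w⁻¹ := by group
        _ = w * (r * s * r⁻¹ * s⁻¹) * w⁻¹ := by rw [← c4.eq]; group
        _ = (r * s * r⁻¹ * s⁻¹) * w * w⁻¹ := by rw [(c7.mul_right c5.inv_right).eq]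
        _ = r * s * r⁻¹ * s⁻¹ := by group
    rw [e]
    exact h'.com hr.2 hs.2
  exact hD (h.D_eq_of_le h' h6)

/-- `Z ⊓ Z' = W`, `Q ⊓ Q' = Z ⊔ Z'` -/
theorem inf_Z (h : Half S W Q Z D) (h' : Half S W Q' Z' D') (hD : D ≠ D') : Z ⊓ Z' = W := by
  apply le_antisymm
  · intro z hz
    obtain ⟨s, hs, hsQ⟩ := h.exists_not h' hD
    exact h.cz s (h'.QS hs) hsQ z hz.1 (h'.comm hz.2 hs)
  · exact le_inf h.WZ h'.WZ

theorem sup_Z (h : Half S W Q Z D) (h' : Half S W Q' Z' D') (hD : D ≠ D') : Z ⊔ Z' = Q ⊓ Q' := by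
  have h1 : Z ⊔ Z' ≤ Q ⊓ Q' :=
    sup_le (le_inf h.ZQ (h'.Z'_le h hD.symm)) (le_inf (h.Z'_le h' hD) h'.ZQ)
  refine eq_of_le_of_card_ge h1 ?_
  have h2 := card_mul_le (le_sup_left : Z ≤ Z ⊔ Z') (le_sup_right : Z' ≤ Z ⊔ Z')
  rw [h.inf_Z h' hD, h.cZ, h'.cZ, h.cW] at h2
  rw [h.card_inf h' hD]
  omega

theorem comm_ZZ (h : Half S W Q Z D) (h' : Half S W Q' Z' D') (hD : D ≠ D') : ∀ a ∈ Z, ∀ b ∈ Z', a * b = b * a :=
  fun a ha b hb => (h.comm ha (h.Z'_le h' hD hb)).symm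

/-- `R = Q ⊓ Q'` is abelian -/
theorem comm_R (h : Half S W Q Z D) (h' : Half S W Q' Z' D') (hD : D ≠ D') :
    ∀ a ∈ Q ⊓ Q', ∀ b ∈ Q ⊓ Q', a * b = b * a := by
  rw [← h.sup_Z h' hD]
  intro a ha b hb
  obtain ⟨z, hz, z', hz', rfl⟩ := mem_sup_comm (h.comm_ZZ h' hD) ha
  obtain ⟨w, hw, w', hw', rfl⟩ := mem_sup_comm (h.comm_ZZ h' hD) hb
  have c1 : Commute z w := (h.comm hz (h.ZQ hw)).symm
  have c2 : Commute z w' := (h.comm_ZZ h' hD) z hz w' hw'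
  have c3 : Commute z' w := ((h.comm_ZZ h' hD) w hw z' hz').symm
  have c4 : Commute z' w' := (h'.comm hz' (h'.ZQ hw')).symm
  exact ((c1.mul_right c2).mul_left (c3.mul_right c4)).eq

theorem cube_R (h : Half S W Q Z D) (h' : Half S W Q' Z' D') (hD : D ≠ D') :
    ∀ a ∈ Q ⊓ Q', a * a * a = 1 := by
  rw [← h.sup_Z h' hD]
  intro a ha
  obtain ⟨z, hz, z', hz', rfl⟩ := mem_sup_comm (h.comm_ZZ h' hD) ha
  have c : Commute z z' := (h.comm_ZZ h' hD) z hz z' hz'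
  have e : ∀ x : G, x * x * x = x ^ 3 := fun x => by rw [pow_succ, pow_two]
  have h1 := h.el z hz
  have h2 := h'.el z' hz'
  rw [e] at h1 h2 ⊢
  rw [c.mul_pow, h1, h2, one_mul]

/-- for `z ∈ Z` and `s ∈ S` the commutator is in `D'` -/
theorem com_Z (h : Half S W Q Z D) (h' : Half S W Q' Z' D') (hD : D ≠ D') {z s : G} (hz : z ∈ Z) (hs : s ∈ S) :
    s * z * s⁻¹ * z⁻¹ ∈ D' := by
  obtain ⟨y, hy, x, hx, rfl⟩ := h'.exists_mul h hD.symm hs
  have e : y * x * z * (y * x)⁻¹ * z⁻¹ = y * z * y⁻¹ * z⁻¹ := by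
    have := h.comm hz hx
    calc y * x * z * (y * x)⁻¹ * z⁻¹ = y * (x * z) * x⁻¹ * y⁻¹ * z⁻¹ := by group
      _ = y * z * y⁻¹ * z⁻¹ := by rw [this]; group
  rw [e]
  exact h'.com hy (h'.Z'_le h hD.symm hz)

/-- `[R, S] ≤ W` -/
theorem com_R (h : Half S W Q Z D) (h' : Half S W Q' Z' D') (hD : D ≠ D') {r s : G} (hr : r ∈ Q ⊓ Q') (hs : s ∈ S) :
    s * r * s⁻¹ * r⁻¹ ∈ W := by
  rw [← h.sup_Z h' hD] at hr
  obtain ⟨z, hz, z', hz', rfl⟩ := mem_sup_comm (h.comm_ZZ h' hD) hr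
  have h1 := h'.DW (h.com_Z h' hD hz hs)
  have h2 := h.DW (h'.com_Z h hD.symm hz' hs)
  have e : s * (z * z') * s⁻¹ * (z * z')⁻¹ = (s * z * s⁻¹ * z⁻¹) * (z * (s * z' * s⁻¹ * z'⁻¹) * z⁻¹) := by group
  rw [e, h.WS h2 (h.QS (h.ZQ hz)), mul_inv_cancel_right]
  exact W.mul_mem h1 h2

theorem card_lt (h : Half S W Q Z D) {A : Subgroup G} (hA : A ≤ S) {B : Subgroup G} (hAB : A ≤ B) {x : G}
    (hx : x ∈ B) (hxA : x ∉ A) (hB : B ≤ S) : 3 * Nat.card A ≤ Nat.card B := by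
  obtain ⟨k, hk, hk'⟩ := h.card_dvd hA
  obtain ⟨l, hl, hl'⟩ := h.card_dvd hB
  have h1 : Nat.card A ≠ Nat.card B := fun h1 => hxA ((eq_of_le_of_card_ge hAB h1.ge) ▸ hx)
  have h2 := Nat.le_of_dvd Nat.card_pos (card_dvd_of_le hAB)
  rw [hk', hl'] at h1 h2 ⊢
  have h3 : k ≤ l := (Nat.pow_le_pow_iff_right (by norm_num)).1 h2
  have h4 : k ≠ l := fun h => h1 (by rw [h])
  calc 3 * 3 ^ k = 3 ^ (k + 1) := by ring
    _ ≤ 3 ^ l := Nat.pow_le_pow_right (by norm_num) (by omega)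

/-- the fixed points on `Q / Z` -/
theorem mem_R_of_com (h : Half S W Q Z D) (h' : Half S W Q' Z' D') (hD : D ≠ D') {s x : G} (hs : s ∈ S) (hsQ : s ∉ Q)
    (hx : x ∈ Q) (hsx : s * x * s⁻¹ * x⁻¹ ∈ Z) : x ∈ Q ⊓ Q' := by
  by_contra hcon
  -- the subgroup of fixed points
  let Y : Subgroup G :=
    { carrier := {x | x ∈ Q ∧ s * x * s⁻¹ * x⁻¹ ∈ Z}
      one_mem' := ⟨Q.one_mem, by rw [mul_one, mul_inv_cancel, inv_one, mul_one]; exact Z.one_mem⟩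
      mul_mem' := by
        rintro x y ⟨hx, hx'⟩ ⟨hy, hy'⟩
        refine ⟨Q.mul_mem hx hy, ?_⟩
        have : s * (x * y) * s⁻¹ * (x * y)⁻¹ = (s * x * s⁻¹ * x⁻¹) * (x * (s * y * s⁻¹ * y⁻¹) * x⁻¹) := by group
        rw [this]
        exact Z.mul_mem hx' (h.ZN x (h.QS hx) _ hy')
      inv_mem' := by
        rintro x ⟨hx, hx'⟩
        refine ⟨Q.inv_mem hx, ?_⟩
        have : s * x⁻¹ * s⁻¹ * x⁻¹⁻¹ = x⁻¹ * (s * x * s⁻¹ * x⁻¹)⁻¹ * x⁻¹⁻¹ := by group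
        rw [this]
        exact h.ZN _ (S.inv_mem (h.QS hx)) _ (Z.inv_mem hx') }
  have hRY : Q ⊓ Q' ≤ Y := fun r hr => ⟨hr.1, h.WZ (h.com_R h' hD hr hs)⟩
  have hYQ : Y ≤ Q := fun x hx => hx.1
  have h1 := h.card_lt (hRY.trans (hYQ.trans h.QS)) hRY (x := x) ⟨hx, hsx⟩ hcon (hYQ.trans h.QS)
  rw [h.card_inf h' hD] at h1
  have h2 : Y = Q := eq_of_le_of_card_ge hYQ (by rw [h.cQ]; omega)
  obtain ⟨y, hy, hy'⟩ := h.fix s hs hsQ
  rw [← h2] at hy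
  exact hy' hy.2

/-- abelian subgroups of order larger than 27 -/
theorem le_or_le (h : Half S W Q Z D) (h' : Half S W Q' Z' D') (hD : D ≠ D') {A : Subgroup G} (hA : A ≤ S)
    (hc : ∀ a ∈ A, ∀ b ∈ A, a * b = b * a) (hcard : 27 < Nat.card A) : A ≤ Q ∨ A ≤ Q' := by
  by_contra hcon
  push Not at hcon
  obtain ⟨h1, h2⟩ := hcon
  obtain ⟨a, ha, haQ⟩ := SetLike.not_le_iff_exists.1 h1
  obtain ⟨b, hb, hbQ⟩ := SetLike.not_le_iff_exists.1 h2
  have hAQ : A ⊓ Q ≤ Q ⊓ Q' := by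
    intro x hx
    refine h.mem_R_of_com h' hD (hA ha) haQ hx.2 ?_
    rw [hc a ha x hx.1, mul_inv_cancel_right, mul_inv_cancel]
    exact Z.one_mem
  have hAQ' : A ⊓ Q' ≤ Q' ⊓ Q := by
    intro x hx
    refine h'.mem_R_of_com h hD.symm (hA hb) hbQ hx.2 ?_
    rw [hc b hb x hx.1, mul_inv_cancel_right, mul_inv_cancel]
    exact Z'.one_mem
  -- `a` is in neither
  have haQ' : a ∉ Q' := fun h3 => haQ (hAQ' ⟨ha, h3⟩).2
  -- the map `r ↦ [a, r]`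
  have hcardA : 81 ≤ Nat.card A := by
    obtain ⟨k, hk, hk'⟩ := h.card_dvd hA
    rw [hk'] at hcard ⊢
    have : 3 < k := (Nat.pow_lt_pow_iff_right (by norm_num : 1 < 3)).1 (by norm_num; exact hcard)
    calc 81 = 3 ^ 4 := by norm_num
      _ ≤ 3 ^ k := Nat.pow_le_pow_right (by norm_num) this
  have hT : 27 ≤ Nat.card (A ⊓ Q : Subgroup G) := by
    have h3 := card_mul_le hA h.QS
    rw [h.cQ, h.cS] at h3
    nlinarith
  let f : (Q ⊓ Q' : Subgroup G) →* W :=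
    { toFun := fun r => ⟨a * r * a⁻¹ * (r : G)⁻¹, h.com_R h' hD r.2 (hA ha)⟩
      map_one' := by
        apply Subtype.ext
        change a * 1 * a⁻¹ * (1 : G)⁻¹ = 1
        group
      map_mul' := by
        intro x y
        apply Subtype.ext
        change a * (x * y) * a⁻¹ * ((x : G) * y)⁻¹ = (a * x * a⁻¹ * (x : G)⁻¹) * (a * y * a⁻¹ * (y : G)⁻¹)
        have h3 := h.WS (h.com_R h' hD y.2 (hA ha)) (h.QS x.2.1)
        have e : a * (x * y) * a⁻¹ * ((x : G) * y)⁻¹ =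
          (a * x * a⁻¹ * (x : G)⁻¹) * (x * (a * y * a⁻¹ * (y : G)⁻¹) * (x : G)⁻¹) := by group
        rw [e, h3, mul_inv_cancel_right] }
  have hfin : Nat.card f.ker * Nat.card f.range = 81 := by
    rw [← h.card_inf h' hD, ← card_mul_index f.ker, index_ker]
  have hker : 27 ≤ Nat.card f.ker := by
    refine hT.trans (Nat.card_le_card_of_injective (fun x : (A ⊓ Q : Subgroup G) =>
      (⟨⟨x, hAQ x.2⟩, ?_⟩ : f.ker)) ?_)
    · rw [MonoidHom.mem_ker]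
      apply Subtype.ext
      change a * x * a⁻¹ * (x : G)⁻¹ = 1
      rw [hc a ha x x.2.1, mul_inv_cancel_right, mul_inv_cancel]
    · intro x y hxy
      apply Subtype.ext
      exact congrArg (fun z : f.ker => ((z : (Q ⊓ Q' : Subgroup G)) : G)) hxy
  -- the range contains `D` and `D'`
  have key : ∀ {Q₀ Z₀ D₀ Q₁ Z₁ D₁ : Subgroup G} (g : Half S W Q₀ Z₀ D₀) (g' : Half S W Q₁ Z₁ D₁), D₀ ≠ D₁ →
      a ∉ Q₀ → Z₀ ≤ Q ⊓ Q' → D₁ ≤ (f.range).map W.subtype := by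
    intro Q₀ Z₀ D₀ Q₁ Z₁ D₁ g g' hne haQ₀ hle
    obtain ⟨z, hz, hza⟩ : ∃ z ∈ Z₀, a * z ≠ z * a := by
      by_contra hcon
      push Not at hcon
      have h3 : Z₀ ≤ W := fun z hz => g.cz a (hA ha) haQ₀ z hz (hcon z hz)
      have h4 := Nat.le_of_dvd Nat.card_pos (card_dvd_of_le h3)
      rw [g.cZ, g.cW] at h4
      omega
    have h3 : a * z * a⁻¹ * z⁻¹ ∈ D₁ := g.com_Z g' hne hz (hA ha)
    have h4 : a * z * a⁻¹ * z⁻¹ ≠ 1 := by
      intro h4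
      rw [mul_inv_eq_one, mul_inv_eq_iff_eq_mul] at h4
      exact hza h4
    have h5 : zpowers (a * z * a⁻¹ * z⁻¹) = D₁ := by
      refine eq_of_le_of_card_ge ((zpowers_le).2 h3) ?_
      have : Nat.card (zpowers (a * z * a⁻¹ * z⁻¹)) ∣ 3 := by
        rw [← g'.cD]
        exact card_dvd_of_le ((zpowers_le).2 h3)
      rcases (Nat.dvd_prime Nat.prime_three).1 this with h6 | h6
      · rw [Nat.card_zpowers, orderOf_eq_one_iff] at h6
        exact absurd h6 h4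
      · rw [g'.cD, h6]
    rw [← h5, zpowers_le]
    exact ⟨f ⟨z, hle hz⟩, ⟨_, rfl⟩, rfl⟩
  have k1 := key h h' hD haQ (by rw [← h.sup_Z h' hD]; exact le_sup_left)
  have k2 := key h' h hD.symm haQ' (by rw [← h.sup_Z h' hD]; exact le_sup_right)
  have k3 : Nat.card ((f.range).map W.subtype) = Nat.card f.range :=
    Nat.card_congr ((f.range).equivMapOfInjective _ (subtype_injective _)).symm.toEquiv
  have k4 : Nat.card f.range ∣ 9 := by
    rw [← h.cW]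
    exact card_subgroup_dvd_card _
  have k5 : Nat.card f.range ≤ 3 := by
    by_contra hcon
    have : Nat.card f.range = 9 := by
      rw [show 9 = 3 ^ 2 by norm_num] at k4
      obtain ⟨k, hk, hk'⟩ := (Nat.dvd_prime_pow Nat.prime_three).1 k4
      rw [hk'] at hcon ⊢
      interval_cases k <;> omega
    rw [this] at hfin
    omega
  rw [← k3] at k5
  have k6 : D = (f.range).map W.subtype := eq_of_le_of_card_ge k2 (by rw [h.cD]; exact k5)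
  have k7 : D' = (f.range).map W.subtype := eq_of_le_of_card_ge k1 (by rw [h'.cD]; exact k5)
  exact hD (k6.trans k7.symm)

end Half

end Cfsg.Agent.H473.GTwoHalf
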