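import Cfsg.Agent.H473.GTwoSide
import Cfsg.Agent.H821.FixCard
import Cfsg.Agent.Lib.MinNormalNonabelian

/-!
# The `3`-local structure of the completion of the `G₂(3)` amalgam (S3393, helper473)
-/

set_option autoImplicit false
set_option linter.unusedSectionVars false

namespace Cfsg.Agent.H473.GTwoMain

open Subgroup Cfsg.Agent.H473.GTwoBase Cfsg.Agent.H473.GTwoHalf Cfsg.Agent.H473.GTwoSide
open Cfsg.Agent.H473.GTwoSide.Side (W mem_W)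
open scoped commutatorElement

variable {G : Type*} [Group G]

/-- conjugates of subgroups -/
def cj (g : G) (A : Subgroup G) : Subgroup G := A.map (MulAut.conj g).toMonoidHom

theorem mem_cj {g : G} {A : Subgroup G} {x : G} : x ∈ cj g A ↔ g⁻¹ * x * g ∈ A := by
  constructor
  · rintro ⟨a, ha, rfl⟩
    change g⁻¹ * (g * a * g⁻¹) * g ∈ A
    have : g⁻¹ * (g * a * g⁻¹) * g = a := by group
    rwa [this]
  · intro h
    refine ⟨g⁻¹ * x * g, h, ?_⟩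
    change g * (g⁻¹ * x * g) * g⁻¹ = x
    group

theorem card_cj (g : G) (A : Subgroup G) : Nat.card (cj g A) = Nat.card A :=
  Nat.card_congr (A.equivMapOfInjective _ (MulAut.conj g).injective).symm.toEquiv

/-- conjugation of a half -/
theorem half_cj {S W Q Z D : Subgroup G} (h : Half S W Q Z D) {g : G} (hg : ∀ s, s ∈ S ↔ g * s * g⁻¹ ∈ S) :
    Half S W (cj g Q) (cj g Z) (cj g D) := by
  have hg' : ∀ s ∈ S, g⁻¹ * s * g ∈ S := by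
    intro s hs
    rw [hg]
    have : g * (g⁻¹ * s * g) * g⁻¹ = s := by group
    rwa [this]
  have hWg : ∀ w ∈ W, g * w * g⁻¹ ∈ W := by
    intro w hw
    rw [h.hW] at hw ⊢
    refine ⟨(hg w).1 hw.1, fun s hs => ?_⟩
    have h1 := hw.2 _ (hg' s hs)
    calc s * (g * w * g⁻¹) = g * (g⁻¹ * s * g * w) * g⁻¹ := by group
      _ = g * (w * (g⁻¹ * s * g)) * g⁻¹ := by rw [h1]
      _ = g * w * g⁻¹ * s := by group
  have hWg' : ∀ w ∈ W, g⁻¹ * w * g ∈ W := by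
    intro w hw
    rw [h.hW] at hw ⊢
    refine ⟨hg' w hw.1, fun s hs => ?_⟩
    have h1 := hw.2 _ ((hg s).1 hs)
    calc s * (g⁻¹ * w * g) = g⁻¹ * (g * s * g⁻¹ * w) * g := by group
      _ = g⁻¹ * (w * (g * s * g⁻¹)) * g := by rw [h1]
      _ = g⁻¹ * w * g * s := by group
  refine
    { cS := h.cS
      cQ := by rw [card_cj, h.cQ]
      cZ := by rw [card_cj, h.cZ]
      cD := by rw [card_cj, h.cD]
      cW := h.cW
      hW := h.hW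
      QS := ?_
      QN := ?_
      hZ := ?_
      WZ := ?_
      DW := ?_
      hD := ?_
      el := ?_
      cz := ?_
      fix := ?_ }
  · intro x hx
    rw [mem_cj] at hx
    have := (hg _).1 (h.QS hx)
    have e : g * (g⁻¹ * x * g) * g⁻¹ = x := by group
    rwa [e] at this
  · intro s hs x hx
    rw [mem_cj] at hx ⊢
    have := h.QN _ (hg' s hs) _ hx
    have e : g⁻¹ * (s * x * s⁻¹) * g = g⁻¹ * s * g * (g⁻¹ * x * g) * (g⁻¹ * s * g)⁻¹ := by group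
    rwa [e]
  · intro x
    rw [mem_cj, mem_cj, h.hZ]
    constructor
    · rintro ⟨h1, h2⟩
      refine ⟨h1, fun y hy => ?_⟩
      have h3 := h2 _ (mem_cj.1 hy)
      calc y * x = g * (g⁻¹ * y * g * (g⁻¹ * x * g)) * g⁻¹ := by group
        _ = g * (g⁻¹ * x * g * (g⁻¹ * y * g)) * g⁻¹ := by rw [h3]
        _ = x * y := by group
    · rintro ⟨h1, h2⟩
      refine ⟨h1, fun y hy => ?_⟩
      have h3 := h2 (g * y * g⁻¹) (mem_cj.2 (by
        have e : g⁻¹ * (g * y * g⁻¹) * g = y := by group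
        rwa [e]))
      calc y * (g⁻¹ * x * g) = g⁻¹ * (g * y * g⁻¹ * x) * g := by group
        _ = g⁻¹ * (x * (g * y * g⁻¹)) * g := by rw [h3]
        _ = g⁻¹ * x * g * y := by group
  · intro w hw
    rw [mem_cj]
    exact h.WZ (hWg' w hw)
  · intro w hw
    rw [mem_cj] at hw
    have := hWg _ (h.DW hw)
    have e : g * (g⁻¹ * w * g) * g⁻¹ = w := by group
    rwa [e] at this
  · rw [cj, cj, h.hD, map_commutator]
  · intro z hz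
    rw [mem_cj] at hz
    have h1 := h.el _ hz
    have e : z * z * z = g * (g⁻¹ * z * g * (g⁻¹ * z * g) * (g⁻¹ * z * g)) * g⁻¹ := by group
    rw [e, h1, mul_one, mul_inv_cancel]
  · intro s hs hsQ z hz hsz
    rw [mem_cj] at hsQ hz
    have h1 := h.cz _ (hg' s hs) hsQ _ hz (by
      calc g⁻¹ * s * g * (g⁻¹ * z * g) = g⁻¹ * (s * z) * g := by group
        _ = g⁻¹ * (z * s) * g := by rw [hsz]
        _ = g⁻¹ * z * g * (g⁻¹ * s * g) := by group)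
    have h2 := hWg _ h1
    have e : g * (g⁻¹ * z * g) * g⁻¹ = z := by group
    rwa [e] at h2
  · intro s hs hsQ
    rw [mem_cj] at hsQ
    obtain ⟨x, hx, hx'⟩ := h.fix _ (hg' s hs) hsQ
    refine ⟨g * x * g⁻¹, mem_cj.2 (by
        have e : g⁻¹ * (g * x * g⁻¹) * g = x := by group
        rwa [e]), fun h1 => hx' ?_⟩
    rw [mem_cj] at h1
    have e : g⁻¹ * (s * (g * x * g⁻¹) * s⁻¹ * (g * x * g⁻¹)⁻¹) * g =
      g⁻¹ * s * g * x * (g⁻¹ * s * g)⁻¹ * x⁻¹ := by group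
    rwa [e] at h1

/-- the amalgam -/
structure Amalg (A₁ Q₁ Z₁ D₁ A₂ Q₂ Z₂ D₂ S : Subgroup G) (t₁ t₂ : G) : Prop where
  s₁ : Side A₁ Q₁ Z₁ D₁ S t₁
  s₂ : Side A₂ Q₂ Z₂ D₂ S t₂
  nc : ∀ g : G, ¬ ∀ d ∈ D₁, g * d * g⁻¹ ∈ D₂
  O : ∀ N : Subgroup G, N.IsSubnormal → N ≠ ⊥ → 3 ∣ Nat.card N

variable {A₁ Q₁ Z₁ D₁ A₂ Q₂ Z₂ D₂ S : Subgroup G} {t₁ t₂ : G}

namespace Amalg

theorem swap (h : Amalg A₁ Q₁ Z₁ D₁ A₂ Q₂ Z₂ D₂ S t₁ t₂) : Amalg A₂ Q₂ Z₂ D₂ A₁ Q₁ Z₁ D₁ S t₂ t₁ where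
  s₁ := h.s₂
  s₂ := h.s₁
  nc := by
    intro g hg
    have hfin : Finite D₁ := Nat.finite_of_card_ne_zero (by rw [h.s₁.cD]; norm_num)
    have h1 : cj g D₂ ≤ D₁ := by
      rintro _ ⟨d, hd, rfl⟩
      exact hg d hd
    have h2 : cj g D₂ = D₁ := eq_of_le_of_card_ge h1 (by rw [card_cj, h.s₁.cD, h.s₂.cD])
    apply h.nc g⁻¹
    intro d hd
    rw [← h2, mem_cj] at hd
    rwa [inv_inv]
  O := h.O

theorem ne (h : Amalg A₁ Q₁ Z₁ D₁ A₂ Q₂ Z₂ D₂ S t₁ t₂) : D₁ ≠ D₂ := by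
  rintro rfl
  exact h.nc 1 fun d hd => by simpa using hd

variable [Finite G]

theorem h₁ (h : Amalg A₁ Q₁ Z₁ D₁ A₂ Q₂ Z₂ D₂ S t₁ t₂) : Half S (W S) Q₁ Z₁ D₁ := h.s₁.half

theorem h₂ (h : Amalg A₁ Q₁ Z₁ D₁ A₂ Q₂ Z₂ D₂ S t₁ t₂) : Half S (W S) Q₂ Z₂ D₂ := h.s₂.half

theorem zpowers_eq {D : Subgroup G} (hD : Nat.card D = 3) {d : G} (hd : d ∈ D) (hd1 : d ≠ 1) : zpowers d = D := by
  refine eq_of_le_of_card_ge (zpowers_le.2 hd) ?_
  have h1 : Nat.card (zpowers d) ∣ 3 := by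
    rw [← hD]
    exact card_dvd_of_le (zpowers_le.2 hd)
  rcases (Nat.dvd_prime Nat.prime_three).1 h1 with h2 | h2
  · rw [Nat.card_zpowers, orderOf_eq_one_iff] at h2
    exact absurd h2 hd1
  · rw [hD, h2]

theorem exists_ne {z : Subgroup G} {Q Z D : Subgroup G} (h : Half S (W S) Q Z D) {s : G} (hs : s ∈ S) (hsQ : s ∉ Q) :
    ∃ z ∈ Z, s * z * s⁻¹ * z⁻¹ ≠ 1 := by
  by_contra hcon
  push Not at hcon
  have h3 : Z ≤ W S := fun z hz => h.cz s hs hsQ z hz (by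
    have := hcon z hz
    rw [mul_inv_eq_one, mul_inv_eq_iff_eq_mul] at this
    exact this)
  have h4 := Nat.le_of_dvd Nat.card_pos (card_dvd_of_le h3)
  rw [h.cZ, h.cW] at h4
  omega

/-- `N_G(S) ≤ A₁` -/
theorem normalizer_le₁ (h : Amalg A₁ Q₁ Z₁ D₁ A₂ Q₂ Z₂ D₂ S t₁ t₂) {g : G} (hg : ∀ s, s ∈ S ↔ g * s * g⁻¹ ∈ S) :
    g ∈ A₁ := by
  by_cases heq : D₁ = cj g D₁
  · rw [← h.s₁.ND, mem_normalizer_iff]
    intro d
    conv_rhs => rw [heq, mem_cj]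
    have e : g⁻¹ * (g * d * g⁻¹) * g = d := by group
    rw [e]
  exfalso
  have hc := half_cj h.h₁ hg
  have hne2 : D₂ ≠ cj g D₁ := by
    intro h1
    apply h.nc g
    intro d hd
    rw [h1, mem_cj]
    have e : g⁻¹ * (g * d * g⁻¹) * g = d := by group
    rwa [e]
  have k1 : Z₁ ≤ cj g Q₁ := hc.Z'_le h.h₁ (Ne.symm heq)
  obtain ⟨s, hs, hsQ⟩ := h.h₁.exists_not hc heq
  obtain ⟨z, hz, hsz⟩ := exists_ne (z := ⊥) h.h₁ (hc.QS hs) hsQ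
  have m1 : s * z * s⁻¹ * z⁻¹ ∈ D₂ := h.h₁.com_Z h.h₂ h.ne hz (hc.QS hs)
  have m2 : s * z * s⁻¹ * z⁻¹ ∈ cj g D₁ := hc.com hs (k1 hz)
  exact hne2 ((zpowers_eq h.s₂.cD m1 hsz).symm.trans (zpowers_eq hc.cD m2 hsz))

theorem normalizer_le (h : Amalg A₁ Q₁ Z₁ D₁ A₂ Q₂ Z₂ D₂ S t₁ t₂) : normalizer (S : Set G) ≤ A₁ :=
  fun _ hg => h.normalizer_le₁ (mem_normalizer_iff.1 hg)

/-- the order of `G` modulo `3^7` -/
theorem card_mod (h : Amalg A₁ Q₁ Z₁ D₁ A₂ Q₂ Z₂ D₂ S t₁ t₂) : Nat.card G % 2187 = 729 := by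
  have : Fact (Nat.Prime 3) := ⟨Nat.prime_three⟩
  have h1 := Sylow.card_normalizer_modEq_card (p := 3) (n := 6) (H := S) (by rw [h.s₁.cS]; norm_num)
  have h2 := Sylow.card_normalizer_modEq_card (p := 3) (n := 6) (H := S.subgroupOf A₁) (by
    rw [Nat.card_congr (subgroupOfEquivOfLe h.s₁.SA).toEquiv, h.s₁.cS]; norm_num)
  rw [← subgroupOf_normalizer_eq h.s₁.SA, Nat.card_congr (subgroupOfEquivOfLe h.normalizer_le).toEquiv, h.s₁.cA] at h2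
  have h3 := h1.symm.trans h2
  exact h3

theorem card_dvd (h : Amalg A₁ Q₁ Z₁ D₁ A₂ Q₂ Z₂ D₂ S t₁ t₂) : 11664 ∣ Nat.card G := by
  rw [← h.s₁.cA]
  exact card_subgroup_dvd_card A₁

theorem fac (h : Amalg A₁ Q₁ Z₁ D₁ A₂ Q₂ Z₂ D₂ S t₁ t₂) : (Nat.card G).factorization 3 = 6 := by
  have h1 := h.card_mod
  have h2 := h.card_dvd
  have hpos : Nat.card G ≠ 0 := Nat.card_pos.ne'
  have h3 : 6 ≤ (Nat.card G).factorization 3 :=
    (Nat.prime_three.pow_dvd_iff_le_factorization hpos).1 ((by norm_num : 3 ^ 6 ∣ 11664).trans h2)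
  have h4 : ¬ 7 ≤ (Nat.card G).factorization 3 := by
    intro h4
    have h5 := (Nat.prime_three.pow_dvd_iff_le_factorization hpos).2 h4
    norm_num at h5
    omega
  omega

/-- a Sylow `3`-subgroup -/
def syl (h : Amalg A₁ Q₁ Z₁ D₁ A₂ Q₂ Z₂ D₂ S t₁ t₂) : Sylow 3 G :=
  have : Fact (Nat.Prime 3) := ⟨Nat.prime_three⟩
  Sylow.ofCard S (by rw [h.fac, h.s₁.cS]; norm_num)

theorem coe_syl (h : Amalg A₁ Q₁ Z₁ D₁ A₂ Q₂ Z₂ D₂ S t₁ t₂) : (h.syl : Subgroup G) = S := rfl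

/-- every `3`-subgroup is conjugate to a subgroup of `S` -/
theorem exists_conj_le (h : Amalg A₁ Q₁ Z₁ D₁ A₂ Q₂ Z₂ D₂ S t₁ t₂) {P : Subgroup G} (hP : IsPGroup 3 P) :
    ∃ g : G, cj g P ≤ S := by
  have : Fact (Nat.Prime 3) := ⟨Nat.prime_three⟩
  obtain ⟨R, hR⟩ := hP.exists_le_sylow
  obtain ⟨g, hg⟩ := MulAction.exists_smul_eq G R h.syl
  refine ⟨g, ?_⟩
  rw [← h.coe_syl, ← hg]
  rintro _ ⟨x, hx, rfl⟩
  exact ⟨x, hR hx, rfl⟩

end Amalg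

end Cfsg.Agent.H473.GTwoMain
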