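import Cfsg.Agent.H473.GTwoSide
import Mathlib.LinearAlgebra.Matrix.GeneralLinearGroup.Card

/-!
# The hypotheses of S3393 give a `Side` (helper473)
-/

set_option autoImplicit false

namespace Cfsg.Agent.H473.GTwoSetup

open Subgroup Cfsg.Agent.H473.GTwoBase Cfsg.Agent.H473.GTwoSide

/-! ### `GL₂(3)` -/

abbrev GL3 := GL (Fin 2) (ZMod 3)

theorem card_GL3 : Nat.card GL3 = 48 := by
  have h := Matrix.card_GL_field (𝔽 := ZMod 3) 2
  rw [h, Fin.prod_univ_two, ZMod.card]
  rfl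

/-- the transvections -/
def u₁ : GL3 := ⟨!![1, 1; 0, 1], !![1, -1; 0, 1], by decide, by decide⟩
def u₂ : GL3 := ⟨!![1, 0; -1, 1], !![1, 0; 1, 1], by decide, by decide⟩
def w : GL3 := u₁ * u₂ * u₁
def mo : GL3 := w * w

theorem u₁_cube : u₁ ^ 3 = 1 := by
  apply Units.ext
  decide

theorem u₂_cube : u₂ ^ 3 = 1 := by
  apply Units.ext
  decide

theorem u₁_ne : u₁ ≠ 1 := by
  intro h
  have := congrArg (fun x : GL3 => x.1 0 1) h
  revert this
  decide

theorem u₂_ne : u₂ ≠ 1 := by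
  intro h
  have := congrArg (fun x : GL3 => x.1 1 0) h
  revert this
  decide

theorem mo_val : mo.1 = -1 := by decide

theorem mo_comm (g : GL3) : g * mo = mo * g := by
  apply Units.ext
  rw [Units.val_mul, Units.val_mul, mo_val, mul_neg, neg_mul, mul_one, one_mul]

theorem mo_sq : mo * mo = 1 := by
  apply Units.ext
  rw [Units.val_mul, mo_val, neg_mul_neg, one_mul, Units.val_one]

theorem mo_ne : mo ≠ 1 := by
  intro h
  have := congrArg (fun x : GL3 => x.1 0 0) h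
  simp only [mo_val] at this
  revert this
  decide

/-- a normal subgroup of `GL₂(3)` of order divisible by three contains `-1` -/
theorem mo_mem {N : Subgroup GL3} (hN : N.Normal) (h3 : 3 ∣ Nat.card N) : mo ∈ N := by
  have : Fact (Nat.Prime 3) := ⟨Nat.prime_three⟩
  have hfac : (Nat.card GL3).factorization 3 = 1 := by
    have h4 : 1 ≤ (Nat.card GL3).factorization 3 := by
      rw [← Nat.Prime.pow_dvd_iff_le_factorization Nat.prime_three Nat.card_pos.ne', card_GL3]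
      norm_num
    have h5 : ¬ 2 ≤ (Nat.card GL3).factorization 3 := by
      rw [← Nat.Prime.pow_dvd_iff_le_factorization Nat.prime_three Nat.card_pos.ne', card_GL3]
      norm_num
    omega
  obtain ⟨x, hx⟩ := exists_prime_orderOf_dvd_card' (G := N) 3 h3
  have hxo : orderOf (x : GL3) = 3 := by rw [Subgroup.orderOf_coe, hx]
  have key : ∀ u : GL3, u ^ 3 = 1 → u ≠ 1 → u ∈ N := by
    intro u hu hu1
    have huo : orderOf u = 3 := orderOf_eq_prime hu hu1
    let P : Sylow 3 GL3 := Sylow.ofCard (zpowers (x : GL3)) (by rw [Nat.card_zpowers, hxo, hfac, pow_one])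
    let R : Sylow 3 GL3 := Sylow.ofCard (zpowers u) (by rw [Nat.card_zpowers, huo, hfac, pow_one])
    obtain ⟨g, hg⟩ := MulAction.exists_smul_eq GL3 R P
    have h1 : g * u * g⁻¹ ∈ (P : Subgroup GL3) := by
      rw [← hg]
      exact ⟨u, mem_zpowers u, rfl⟩
    have h2 : (P : Subgroup GL3) ≤ N := zpowers_le.2 x.2
    have h3 := hN.conj_mem _ (h2 h1) g⁻¹
    have e : g⁻¹ * (g * u * g⁻¹) * g⁻¹⁻¹ = u := by group
    rwa [e] at h3
  have h1 := key u₁ u₁_cube u₁_ne
  have h2 := key u₂ u₂_cube u₂_ne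
  have h3 : w ∈ N := N.mul_mem (N.mul_mem h1 h2) h1
  exact N.mul_mem h3 h3

variable {G : Type*} [Group G]

theorem card_sub {A B : Subgroup G} (h : A ≤ B) : Nat.card (A.subgroupOf B) = Nat.card A :=
  Nat.card_congr (subgroupOfEquivOfLe h).toEquiv

theorem exists_side [Finite G] (A Q Z D S : Subgroup G) (hQA : Q ≤ A) [hn : (Q.subgroupOf A).Normal]
    (hcard : Nat.card Q = 3 ^ 5) (e : ↥A ⧸ Q.subgroupOf A ≃* GL (Fin 2) (ZMod 3))
    (hZ : Z = Q ⊓ centralizer (Q : Set G)) (hD : D = ⁅Q, Q⁆)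
    (hmod : (Z.subgroupOf Q).index = 9 ∧ D ≤ Z ∧ (D.subgroupOf Z).index = 9 ∧
      (∀ a ∈ A, a ∈ Q ↔ ∀ x ∈ Q, a * x * a⁻¹ * x⁻¹ ∈ Z) ∧
      (∀ a ∈ A, a ∈ Q ↔ ∀ z ∈ Z, a * z * a⁻¹ * z⁻¹ ∈ D))
    (hN : normalizer (D : Set G) = A) (hSA : S ≤ A) (hS : Nat.card S = 729) : ∃ t, Side A Q Z D S t := by
  obtain ⟨hi1, hDZ, hi2, hk1, hk2⟩ := hmod
  have hZQ : Z ≤ Q := by rw [hZ]; exact inf_le_left
  have hZ' : ∀ x, x ∈ Z ↔ x ∈ Q ∧ ∀ y ∈ Q, y * x = x * y := by
    intro x
    rw [hZ]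
    exact ⟨fun h => ⟨h.1, fun y hy => mem_centralizer_iff.1 h.2 y hy⟩,
      fun h => ⟨h.1, mem_centralizer_iff.2 fun y hy => h.2 y hy⟩⟩
  have cA : Nat.card A = 11664 := by
    have h1 := card_eq_card_quotient_mul_card_subgroup (Q.subgroupOf A)
    rw [Nat.card_congr e.toEquiv, card_GL3, card_sub hQA, hcard] at h1
    rw [h1]
    norm_num
  have cQ : Nat.card Q = 243 := by rw [hcard]; norm_num
  have cZ : Nat.card Z = 27 := by
    have h1 := card_mul_index (Z.subgroupOf Q)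
    rw [hi1, card_sub hZQ, cQ] at h1
    omega
  have cD : Nat.card D = 3 := by
    have h1 := card_mul_index (D.subgroupOf Z)
    rw [hi2, card_sub hDZ, cZ] at h1
    omega
  -- the homomorphism
  let π : A →* GL3 := e.toMonoidHom.comp (QuotientGroup.mk' (Q.subgroupOf A))
  have hπs : Function.Surjective π := e.surjective.comp (QuotientGroup.mk'_surjective _)
  have hπk : ∀ a : A, π a = 1 ↔ (a : G) ∈ Q := by
    intro a
    change e (a : A ⧸ Q.subgroupOf A) = 1 ↔ _
    rw [e.map_eq_one_iff, QuotientGroup.eq_one_iff, mem_subgroupOf]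
  have hQn : ∀ a ∈ A, ∀ x ∈ Q, a * x * a⁻¹ ∈ Q := by
    intro a ha x hx
    exact mem_subgroupOf.1 (hn.conj_mem ⟨x, hQA hx⟩ (mem_subgroupOf.2 hx) ⟨a, ha⟩)
  -- `Q ≤ S`
  have hpS : IsPGroup 3 S := IsPGroup.of_card (n := 6) (by rw [hS]; norm_num)
  have hpQ : IsPGroup 3 Q := IsPGroup.of_card (n := 5) hcard
  have hQS : Q ≤ S := by
    have h1 : IsPGroup 3 (S ⊔ Q : Subgroup G) := by
      refine hpS.to_sup_of_normal_right' hpQ ?_
      intro s hs
      rw [mem_normalizer_iff]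
      intro q
      refine ⟨hQn s (hSA hs) q, fun hq => ?_⟩
      have h2 := hQn s⁻¹ (A.inv_mem (hSA hs)) _ hq
      have e : s⁻¹ * (s * q * s⁻¹) * s⁻¹⁻¹ = q := by group
      rwa [e] at h2
    have : Fact (Nat.Prime 3) := ⟨Nat.prime_three⟩
    obtain ⟨n, hn'⟩ := IsPGroup.iff_card.1 h1
    have h2 : Nat.card (S ⊔ Q : Subgroup G) ∣ 11664 := by
      rw [← cA]
      exact card_dvd_of_le (sup_le hSA hQA)
    rw [hn'] at h2
    have h3 : n ≤ 6 := by
      by_contra h3
      have h4 : 3 ^ 7 ∣ 11664 := (pow_dvd_pow 3 (by omega)).trans h2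
      norm_num at h4
    have h4 : Nat.card (S ⊔ Q : Subgroup G) ≤ Nat.card S := by
      rw [hn', hS]
      calc 3 ^ n ≤ 3 ^ 6 := Nat.pow_le_pow_right (by norm_num) h3
        _ = 729 := by norm_num
    have h5 : S = S ⊔ Q := eq_of_le_of_card_ge le_sup_left h4
    rw [h5]
    exact le_sup_right
  -- the lift of `w` and `-1`
  obtain ⟨w₀, hw₀⟩ := hπs w
  obtain ⟨t₀, ht₀⟩ := hπs mo
  have ht₀Q : ((t₀ * t₀ : A) : G) ∈ Q := by
    rw [← hπk, map_mul, ht₀, mo_sq]
  set t : A := t₀ ^ 243 with ht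
  have hπt : π t = mo := by
    have h1 : mo ^ 243 = mo := by
      rw [show 243 = 2 * 121 + 1 by norm_num, pow_succ, pow_mul, pow_two, mo_sq, one_pow, one_mul]
    rw [ht, map_pow, ht₀, h1]
  have ht2 : t * t = 1 := by
    have h1 : (t₀ * t₀) ^ 243 = 1 := by
      have h2 := pow_card_eq_one' (x := (⟨((t₀ * t₀ : A) : G), ht₀Q⟩ : Q))
      rw [cQ] at h2
      have h3 := congrArg Subtype.val h2
      apply Subtype.ext
      exact h3
    rw [ht, ← (Commute.refl t₀).mul_pow, h1]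
  have hcom : ∀ {d : G}, d ∈ D → ∀ {q : G}, q ∈ Q → q * d = d * q := fun hd q hq => ((hZ' _).1 (hDZ hd)).2 _ hq
  have hDn : ∀ a ∈ A, ∀ d ∈ D, a * d * a⁻¹ ∈ D := by
    intro a ha d hd
    rw [← hN] at ha
    exact (mem_normalizer_iff.1 ha d).1 hd
  refine ⟨t, ?_⟩
  refine
    { cA := cA
      cQ := cQ
      cZ := cZ
      cD := cD
      cS := hS
      QS := hQS
      SA := hSA
      Qn := hQn
      hZ := hZ'
      hD := hD
      DZ := hDZ
      k1 := fun a ha h => (hk1 a ha).2 h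
      k2 := fun a ha h => (hk2 a ha).2 h
      ND := hN
      tA := t.2
      t2 := congrArg Subtype.val ht2
      tQ := ?_
      tc := ?_
      tD := ?_
      tN := ?_ }
  · intro h
    rw [← hπk, hπt] at h
    exact mo_ne h
  · intro a ha
    have h1 : π (⟨a, ha⟩ * t * ⟨a, ha⟩⁻¹ * t⁻¹) = 1 := by
      rw [map_mul, map_mul, map_mul, map_inv, map_inv, hπt, mo_comm, mul_inv_cancel_right, mul_inv_cancel]
    exact (hπk _).1 h1
  · intro d hd
    -- `w₀` squared centralizes `d`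
    have hq : ((t * (w₀ * w₀)⁻¹ : A) : G) ∈ Q := by
      rw [← hπk, map_mul, map_inv, map_mul, hπt, hw₀]
      exact mul_inv_cancel _
    have hww : (w₀ : G) * w₀ * d = d * (w₀ * w₀) := by
      by_cases hd1 : d = 1
      · rw [hd1, mul_one, one_mul]
      have hval : ∀ {x : G}, x ∈ D → x ≠ 1 → x = d ∨ x = d⁻¹ := by
        intro x hx hx1
        have hz : zpowers d = D := by
          refine eq_of_le_of_card_ge (zpowers_le.2 hd) ?_
          have h1 : Nat.card (zpowers d) ∣ 3 := by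
            rw [← cD]
            exact card_dvd_of_le (zpowers_le.2 hd)
          rcases (Nat.dvd_prime Nat.prime_three).1 h1 with h2 | h2
          · rw [Nat.card_zpowers, orderOf_eq_one_iff] at h2
            exact absurd h2 hd1
          · rw [cD, h2]
        have ho : orderOf d = 3 := by
          rw [← Nat.card_zpowers, hz, cD]
        rw [← hz] at hx
        obtain ⟨k, rfl⟩ := mem_zpowers_iff.1 hx
        have h3 : d ^ (3 : ℤ) = 1 := by
          have h4 : d ^ 3 = 1 := by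
            rw [← ho, pow_orderOf_eq_one]
          exact_mod_cast h4
        have hk : k % 3 = 0 ∨ k % 3 = 1 ∨ k % 3 = 2 := by omega
        have hk' : k = 3 * (k / 3) + k % 3 := by omega
        have e1 : d ^ k = d ^ (k % 3) := by
          rw [hk', zpow_add, zpow_mul, h3, one_zpow, one_mul, ← hk']
        rcases hk with h4 | h4 | h4
        · exfalso
          rw [e1, h4, zpow_zero] at hx1
          exact hx1 rfl
        · left
          rw [e1, h4, zpow_one]
        · right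
          rw [e1, h4]
          have : d ^ (2 : ℤ) = d ^ (3 : ℤ) * d⁻¹ := by
            rw [show (3 : ℤ) = 2 + 1 by norm_num, zpow_add, zpow_one, mul_inv_cancel_right]
          rw [this, h3, one_mul]
      have h1 : (w₀ : G) * d * (w₀ : G)⁻¹ ≠ 1 := by
        intro h1
        rw [mul_inv_eq_one, mul_eq_left] at h1
        exact hd1 h1
      have h2 : (w₀ : G) * w₀ * d * ((w₀ : G) * w₀)⁻¹ = w₀ * (w₀ * d * (w₀ : G)⁻¹) * (w₀ : G)⁻¹ := by group
      rw [← mul_inv_eq_iff_eq_mul, h2]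
      rcases hval (hDn _ w₀.2 d hd) h1 with h3 | h3
      · rw [h3, h3]
      · have h4 : (w₀ : G) * d⁻¹ * (w₀ : G)⁻¹ = (w₀ * d * (w₀ : G)⁻¹)⁻¹ := by group
        rw [h3, h4, h3, inv_inv]
    have h1 := hcom hd hq
    have h2 : (t : G) = ((t * (w₀ * w₀)⁻¹ : A) : G) * (w₀ * w₀) := by
      change (t : G) = t * ((w₀ : G) * w₀)⁻¹ * (w₀ * w₀)
      group
    rw [h2]
    calc ((t * (w₀ * w₀)⁻¹ : A) : G) * (w₀ * w₀) * d = ((t * (w₀ * w₀)⁻¹ : A) : G) * ((w₀ * w₀) * d) := by group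
      _ = ((t * (w₀ * w₀)⁻¹ : A) : G) * d * (w₀ * w₀) := by rw [hww]; group
      _ = d * (((t * (w₀ * w₀)⁻¹ : A) : G) * (w₀ * w₀)) := by rw [h1]; group
  · intro N hNA hNn hSN
    have hn1 : (N.subgroupOf A).Normal :=
      ⟨fun n hn a => mem_subgroupOf.2 (hNn a a.2 n (mem_subgroupOf.1 hn))⟩
    have hn2 : ((N.subgroupOf A).map π).Normal := hn1.map _ hπs
    -- an element of `S` outside `Q`
    obtain ⟨s, hs, hsQ⟩ := SetLike.not_le_iff_exists.1 (fun hle : S ≤ Q => by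
      have h2 := Nat.le_of_dvd Nat.card_pos (card_dvd_of_le hle)
      rw [hS, cQ] at h2
      omega)
    have h3 : 3 ∣ Nat.card ((N.subgroupOf A).map π) := by
      have h4 : π ⟨s, hSA hs⟩ ∈ (N.subgroupOf A).map π := ⟨_, mem_subgroupOf.2 (hSN hs), rfl⟩
      have h5 : π ⟨s, hSA hs⟩ ≠ 1 := fun h5 => hsQ ((hπk _).1 h5)
      have h6 : orderOf (π ⟨s, hSA hs⟩) ∣ 729 := by
        refine (orderOf_map_dvd π _).trans ?_
        have h7 := orderOf_dvd_natCard (⟨s, hs⟩ : S)
        rw [hS] at h7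
        have h8 : orderOf (⟨s, hSA hs⟩ : A) = orderOf (⟨s, hs⟩ : S) := by
          rw [Subgroup.orderOf_mk, Subgroup.orderOf_mk]
        rw [h8]
        exact h7
      rw [show 729 = 3 ^ 6 by norm_num] at h6
      obtain ⟨k, -, hk⟩ := (Nat.dvd_prime_pow Nat.prime_three).1 h6
      have hk0 : k ≠ 0 := by
        rintro rfl
        rw [pow_zero, orderOf_eq_one_iff] at hk
        exact h5 hk
      have h7 : orderOf (π ⟨s, hSA hs⟩) ∣ Nat.card ((N.subgroupOf A).map π) := by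
        rw [← Nat.card_zpowers]
        exact card_dvd_of_le (zpowers_le.2 h4)
      rw [hk] at h7
      exact (dvd_pow_self 3 hk0).trans h7
    obtain ⟨n, hn, hnt⟩ := mo_mem hn2 h3
    have h4 : ((t * n⁻¹ : A) : G) ∈ Q := by
      rw [← hπk, map_mul, map_inv, hnt, hπt]
      exact mul_inv_cancel _
    have h5 : (t : G) = ((t * n⁻¹ : A) : G) * n := by
      change (t : G) = t * (n : G)⁻¹ * n
      group
    rw [h5]
    exact N.mul_mem (hSN (hQS h4)) (mem_subgroupOf.1 hn)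

end Cfsg.Agent.H473.GTwoSetup
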