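import Cfsg.Agent.H473.GTwoHalf
import Cfsg.Agent.H356.CommSup

/-!
# One side of the amalgam (S3393, helper473)
-/

set_option autoImplicit false
set_option linter.unusedSectionVars false

namespace Cfsg.Agent.H473.GTwoSide

open Subgroup Cfsg.Agent.H473.GTwoBase Cfsg.Agent.H473.GTwoHalf
open scoped commutatorElement

variable {G : Type*} [Group G]

/-- one side of the amalgam -/
structure Side (A Q Z D S : Subgroup G) (t : G) : Prop where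
  cA : Nat.card A = 11664
  cQ : Nat.card Q = 243
  cZ : Nat.card Z = 27
  cD : Nat.card D = 3
  cS : Nat.card S = 729
  QS : Q ≤ S
  SA : S ≤ A
  Qn : ∀ a ∈ A, ∀ x ∈ Q, a * x * a⁻¹ ∈ Q
  hZ : ∀ x, x ∈ Z ↔ x ∈ Q ∧ ∀ y ∈ Q, y * x = x * y
  hD : D = ⁅Q, Q⁆
  DZ : D ≤ Z
  k1 : ∀ a ∈ A, (∀ x ∈ Q, a * x * a⁻¹ * x⁻¹ ∈ Z) → a ∈ Q
  k2 : ∀ a ∈ A, (∀ z ∈ Z, a * z * a⁻¹ * z⁻¹ ∈ D) → a ∈ Q
  ND : normalizer (D : Set G) = A
  tA : t ∈ A
  t2 : t * t = 1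
  tQ : t ∉ Q
  tc : ∀ a ∈ A, a * t * a⁻¹ * t⁻¹ ∈ Q
  tD : ∀ d ∈ D, t * d = d * t
  tN : ∀ N : Subgroup G, N ≤ A → (∀ a ∈ A, ∀ n ∈ N, a * n * a⁻¹ ∈ N) → S ≤ N → t ∈ N

variable {A Q Z D S : Subgroup G} {t : G}

namespace Side

theorem QA (h : Side A Q Z D S t) : Q ≤ A := h.QS.trans h.SA

theorem ZQ (h : Side A Q Z D S t) : Z ≤ Q := fun x hx => ((h.hZ x).1 hx).1

theorem comm (h : Side A Q Z D S t) {z x : G} (hz : z ∈ Z) (hx : x ∈ Q) : x * z = z * x := ((h.hZ z).1 hz).2 x hx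

theorem com (h : Side A Q Z D S t) {x y : G} (hx : x ∈ Q) (hy : y ∈ Q) : x * y * x⁻¹ * y⁻¹ ∈ D := by
  rw [h.hD]
  exact commutator_mem_commutator hx hy

theorem Zn (h : Side A Q Z D S t) : ∀ s ∈ A, ∀ z ∈ Z, s * z * s⁻¹ ∈ Z := by
  intro s hs z hz
  rw [h.hZ]
  refine ⟨h.Qn s hs z (h.ZQ hz), fun y hy => ?_⟩
  have h1 := h.comm hz (h.Qn s⁻¹ (A.inv_mem hs) y hy)
  rw [inv_inv] at h1
  calc y * (s * z * s⁻¹) = s * (s⁻¹ * y * s * z) * s⁻¹ := by group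
    _ = s * (z * (s⁻¹ * y * s)) * s⁻¹ := by rw [h1]
    _ = s * z * s⁻¹ * y := by group

theorem Dn (h : Side A Q Z D S t) : ∀ s ∈ A, ∀ z ∈ D, s * z * s⁻¹ ∈ D := by
  intro s hs z hz
  rw [← h.ND] at hs
  exact (mem_normalizer_iff.1 hs z).1 hz

theorem t_inv (h : Side A Q Z D S t) : t⁻¹ = t := inv_eq_of_mul_eq_one_left h.t2

variable [Finite G]

theorem odd_S (h : Side A Q Z D S t) : ¬ 2 ∣ Nat.card S := by rw [h.cS]; norm_num

theorem pS (h : Side A Q Z D S t) : IsPGroup 3 S := IsPGroup.of_card (n := 6) (by rw [h.cS]; norm_num)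

theorem pow_card (h : Side A Q Z D S t) {X : Subgroup G} (hX : X ≤ S) : ∃ k ≤ 6, Nat.card X = 3 ^ k := by
  have h1 := card_dvd_of_le hX
  rw [h.cS, show 729 = 3 ^ 6 by norm_num] at h1
  obtain ⟨k, hk, hk'⟩ := (Nat.dvd_prime_pow Nat.prime_three).1 h1
  exact ⟨k, hk, hk'⟩

theorem card_lt (h : Side A Q Z D S t) {B C : Subgroup G} (hBC : B ≤ C) {x : G} (hx : x ∈ C) (hxB : x ∉ B) (hC : C ≤ S) :
    3 * Nat.card B ≤ Nat.card C := by
  obtain ⟨k, hk, hk'⟩ := h.pow_card (hBC.trans hC)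
  obtain ⟨l, hl, hl'⟩ := h.pow_card hC
  have h1 : Nat.card B ≠ Nat.card C := fun h1 => hxB ((eq_of_le_of_card_ge hBC h1.ge) ▸ hx)
  have h2 := Nat.le_of_dvd Nat.card_pos (card_dvd_of_le hBC)
  rw [hk', hl'] at h1 h2 ⊢
  have h3 : k ≤ l := (Nat.pow_le_pow_iff_right (by norm_num)).1 h2
  have h4 : k ≠ l := fun h => h1 (by rw [h])
  calc 3 * 3 ^ k = 3 ^ (k + 1) := by ring
    _ ≤ 3 ^ l := Nat.pow_le_pow_right (by norm_num) (by omega)

theorem mem_of_sq (h : Side A Q Z D S t) {X : Subgroup G} {x : G} (hx : x ∈ S) (hxx : x * x ∈ X) : x ∈ X :=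
  mem_of_sq_mem h.odd_S hx hxx

theorem DS (h : Side A Q Z D S t) : D ≤ S := (h.DZ.trans h.ZQ).trans h.QS

theorem comm_D (h : Side A Q Z D S t) {s d : G} (hs : s ∈ S) (hd : d ∈ D) : s * d = d * s := by
  have : Fact (Nat.Prime 3) := ⟨Nat.prime_three⟩
  have h1 := comm_mem_of_card h.pS (bot_le : (⊥ : Subgroup G) ≤ D) h.DS
    (fun s _ d hd => by rw [mem_bot.1 hd]; simp)
    (fun s hs d hd => h.Dn s (h.SA hs) d hd) (by rw [h.cD, card_bot]) s hs d hd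
  rw [mem_bot, mul_inv_eq_one, mul_inv_eq_iff_eq_mul] at h1
  exact h1

/-- irreducibility -/
theorem irr (h : Side A Q Z D S t) {L X U : Subgroup G} (hLX : L ≤ X) (hXU : X ≤ U) (hU : U ≤ S)
    (hL : ∀ a ∈ A, ∀ x ∈ L, a * x * a⁻¹ ∈ L) (hX : ∀ a ∈ A, ∀ x ∈ X, a * x * a⁻¹ ∈ X)
    (hU' : ∀ a ∈ A, ∀ x ∈ U, a * x * a⁻¹ ∈ U)
    (hk : ∀ a ∈ A, (∀ x ∈ U, a * x * a⁻¹ * x⁻¹ ∈ L) → a ∈ Q)
    (c1 : Nat.card X = 3 * Nat.card L) (c2 : Nat.card U = 3 * Nat.card X) : False := by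
  have : Fact (Nat.Prime 3) := ⟨Nat.prime_three⟩
  let C : Subgroup G :=
    { carrier := {a | a ∈ A ∧ (∀ x ∈ X, a * x * a⁻¹ * x⁻¹ ∈ L) ∧ ∀ x ∈ U, a * x * a⁻¹ * x⁻¹ ∈ X}
      one_mem' := ⟨A.one_mem, fun x _ => by simp, fun x _ => by simp⟩
      mul_mem' := by
        rintro a b ⟨ha, ha1, ha2⟩ ⟨hb, hb1, hb2⟩
        have e : ∀ x : G, a * b * x * (a * b)⁻¹ * x⁻¹ = (a * (b * x * b⁻¹ * x⁻¹) * a⁻¹) * (a * x * a⁻¹ * x⁻¹) := by
          intro x; group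
        refine ⟨A.mul_mem ha hb, fun x hx => ?_, fun x hx => ?_⟩
        · rw [e]; exact L.mul_mem (hL a ha _ (hb1 x hx)) (ha1 x hx)
        · rw [e]; exact X.mul_mem (hX a ha _ (hb2 x hx)) (ha2 x hx)
      inv_mem' := by
        rintro a ⟨ha, ha1, ha2⟩
        have e : ∀ x : G, a⁻¹ * x * a⁻¹⁻¹ * x⁻¹ = a⁻¹ * (a * x * a⁻¹ * x⁻¹)⁻¹ * a⁻¹⁻¹ := by
          intro x; group
        refine ⟨A.inv_mem ha, fun x hx => ?_, fun x hx => ?_⟩
        · rw [e]; exact hL _ (A.inv_mem ha) _ (L.inv_mem (ha1 x hx))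
        · rw [e]; exact hX _ (A.inv_mem ha) _ (X.inv_mem (ha2 x hx)) }
  have ht : t ∈ C := by
    refine h.tN C (fun a ha => ha.1) ?_ ?_
    · rintro a ha n ⟨hn, hn1, hn2⟩
      have e : ∀ x : G, a * n * a⁻¹ * x * (a * n * a⁻¹)⁻¹ * x⁻¹ =
          a * (n * (a⁻¹ * x * a⁻¹⁻¹) * n⁻¹ * (a⁻¹ * x * a⁻¹⁻¹)⁻¹) * a⁻¹ := by
        intro x; group
      refine ⟨A.mul_mem (A.mul_mem ha hn) (A.inv_mem ha), fun x hx => ?_, fun x hx => ?_⟩
      · rw [e]; exact hL a ha _ (hn1 _ (hX _ (A.inv_mem ha) x hx))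
      · rw [e]; exact hX a ha _ (hn2 _ (hU' _ (A.inv_mem ha) x hx))
    · intro s hs
      refine ⟨h.SA hs, ?_, ?_⟩
      · exact comm_mem_of_card h.pS hLX (hXU.trans hU) (fun s hs => hL s (h.SA hs)) (fun s hs => hX s (h.SA hs)) c1 s hs
      · exact comm_mem_of_card h.pS hXU hU (fun s hs => hX s (h.SA hs)) (fun s hs => hU' s (h.SA hs)) c2 s hs
  apply h.tQ
  apply hk t h.tA
  intro u hu
  have h1 := ht.2.2 u hu
  have h2 := ht.2.1 _ h1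
  have e : t * (t * u * t⁻¹ * u⁻¹) * t⁻¹ * (t * u * t⁻¹ * u⁻¹)⁻¹ = (t * u * t⁻¹ * u⁻¹)⁻¹ * (t * u * t⁻¹ * u⁻¹)⁻¹ := by
    have h3 : t * (t * u * t⁻¹ * u⁻¹) * t⁻¹ = (t * u * t⁻¹ * u⁻¹)⁻¹ := by
      calc t * (t * u * t⁻¹ * u⁻¹) * t⁻¹ = (t * t) * u * t⁻¹ * u⁻¹ * t⁻¹ := by group
        _ = u * t⁻¹ * u⁻¹ * t⁻¹ := by rw [h.t2, one_mul]
        _ = (t * u * t⁻¹ * u⁻¹)⁻¹ := by
          rw [h.t_inv]
          simp only [mul_inv_rev, inv_inv, h.t_inv, mul_assoc]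
    rw [h3]
  rw [e] at h2
  have h3 := h.mem_of_sq (hU (hXU (X.inv_mem h1))) h2
  exact (inv_mem_iff).1 h3

theorem irrZ (h : Side A Q Z D S t) {X : Subgroup G} (hDX : D ≤ X) (hXZ : X ≤ Z)
    (hX : ∀ a ∈ A, ∀ x ∈ X, a * x * a⁻¹ ∈ X) : X = D ∨ X = Z := by
  by_contra hcon
  push Not at hcon
  obtain ⟨h1, h2⟩ := hcon
  have hZS := h.ZQ.trans h.QS
  obtain ⟨x, hx, hxD⟩ := SetLike.not_le_iff_exists.1 (fun hle : X ≤ D => h1 (le_antisymm hle hDX))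
  obtain ⟨z, hz, hzX⟩ := SetLike.not_le_iff_exists.1 (fun hle : Z ≤ X => h2 (le_antisymm hXZ hle))
  have c1 := h.card_lt hDX hx hxD (hXZ.trans hZS)
  have c2 := h.card_lt hXZ hz hzX hZS
  rw [h.cD] at c1
  rw [h.cZ] at c2
  exact h.irr hDX hXZ hZS h.Dn hX h.Zn h.k2 (by rw [h.cD]; omega) (by rw [h.cZ]; omega)

theorem irrQ (h : Side A Q Z D S t) {X : Subgroup G} (hZX : Z ≤ X) (hXQ : X ≤ Q)
    (hX : ∀ a ∈ A, ∀ x ∈ X, a * x * a⁻¹ ∈ X) : X = Z ∨ X = Q := by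
  by_contra hcon
  push Not at hcon
  obtain ⟨h1, h2⟩ := hcon
  obtain ⟨x, hx, hxZ⟩ := SetLike.not_le_iff_exists.1 (fun hle : X ≤ Z => h1 (le_antisymm hle hZX))
  obtain ⟨z, hz, hzX⟩ := SetLike.not_le_iff_exists.1 (fun hle : Q ≤ X => h2 (le_antisymm hXQ hle))
  have c1 := h.card_lt hZX hx hxZ (hXQ.trans h.QS)
  have c2 := h.card_lt hXQ hz hzX h.QS
  rw [h.cZ] at c1
  rw [h.cQ] at c2
  exact h.irr hZX hXQ h.QS h.Zn hX h.Qn h.k1 (by rw [h.cZ]; omega) (by rw [h.cQ]; omega)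

/-- the action of `t` -/
theorem t_conj (h : Side A Q Z D S t) {a : G} (ha : a ∈ A) (x : G) :
    ∃ q ∈ Q, t * (a * x * a⁻¹) * t⁻¹ = a * (q * (t * x * t⁻¹) * q⁻¹) * a⁻¹ := by
  refine ⟨a⁻¹ * t * a⁻¹⁻¹ * t⁻¹, h.tc _ (A.inv_mem ha), by group⟩

theorem t_conj_Z (h : Side A Q Z D S t) {a z : G} (ha : a ∈ A) (hz : z ∈ Z) :
    t * (a * z * a⁻¹) * t⁻¹ = a * (t * z * t⁻¹) * a⁻¹ := by
  obtain ⟨q, hq, e⟩ := h.t_conj ha z
  rw [e, h.comm (h.Zn t h.tA z hz) hq, mul_inv_cancel_right]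

theorem invZ (h : Side A Q Z D S t) {z : G} (hz : z ∈ Z) : t * z * t⁻¹ * z ∈ D := by
  let X : Subgroup G :=
    { carrier := {x | x ∈ Z ∧ t * x * t⁻¹ * x⁻¹ ∈ D}
      one_mem' := ⟨Z.one_mem, by simp⟩
      mul_mem' := by
        rintro x y ⟨hx, hx'⟩ ⟨hy, hy'⟩
        refine ⟨Z.mul_mem hx hy, ?_⟩
        have : t * (x * y) * t⁻¹ * (x * y)⁻¹ = (t * x * t⁻¹ * x⁻¹) * (x * (t * y * t⁻¹ * y⁻¹) * x⁻¹) := by group
        rw [this]
        exact D.mul_mem hx' (h.Dn x (h.QA (h.ZQ hx)) _ hy')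
      inv_mem' := by
        rintro x ⟨hx, hx'⟩
        refine ⟨Z.inv_mem hx, ?_⟩
        have : t * x⁻¹ * t⁻¹ * x⁻¹⁻¹ = x⁻¹ * (t * x * t⁻¹ * x⁻¹)⁻¹ * x⁻¹⁻¹ := by group
        rw [this]
        exact h.Dn _ (A.inv_mem (h.QA (h.ZQ hx))) _ (D.inv_mem hx') }
  have hX : X = D := by
    rcases h.irrZ (X := X) (fun d hd => ⟨h.DZ hd, by rw [h.tD d hd, mul_inv_cancel_right, mul_inv_cancel]; exact D.one_mem⟩)
      (fun x hx => hx.1) (by
        rintro a ha x ⟨hx, hx'⟩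
        refine ⟨h.Zn a ha x hx, ?_⟩
        rw [h.t_conj_Z ha hx]
        have : a * (t * x * t⁻¹) * a⁻¹ * (a * x * a⁻¹)⁻¹ = a * (t * x * t⁻¹ * x⁻¹) * a⁻¹ := by group
        rw [this]
        exact h.Dn a ha _ hx') with h1 | h1
    · exact h1
    · exfalso
      apply h.tQ
      apply h.k2 t h.tA
      intro z hz
      rw [← h1] at hz
      exact hz.2
  rw [← hX]
  have h1 : t * z * t⁻¹ ∈ Z := h.Zn t h.tA z hz
  refine ⟨Z.mul_mem h1 hz, ?_⟩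
  have h2 : t * (t * z * t⁻¹ * z) * t⁻¹ = t * z * t⁻¹ * z := by
    calc t * (t * z * t⁻¹ * z) * t⁻¹ = (t * t) * z * (t⁻¹ * z * t⁻¹) := by group
      _ = z * (t * z * t⁻¹) := by rw [h.t2, one_mul, h.t_inv]
      _ = t * z * t⁻¹ * z := h.comm h1 (h.ZQ hz)
  rw [h2, mul_inv_cancel]
  exact D.one_mem

theorem invQ (h : Side A Q Z D S t) {x : G} (hx : x ∈ Q) : t * x * t⁻¹ * x ∈ Z := by
  let X : Subgroup G :=
    { carrier := {x | x ∈ Q ∧ t * x * t⁻¹ * x⁻¹ ∈ Z}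
      one_mem' := ⟨Q.one_mem, by simp⟩
      mul_mem' := by
        rintro x y ⟨hx, hx'⟩ ⟨hy, hy'⟩
        refine ⟨Q.mul_mem hx hy, ?_⟩
        have : t * (x * y) * t⁻¹ * (x * y)⁻¹ = (t * x * t⁻¹ * x⁻¹) * (x * (t * y * t⁻¹ * y⁻¹) * x⁻¹) := by group
        rw [this]
        exact Z.mul_mem hx' (h.Zn x (h.QA hx) _ hy')
      inv_mem' := by
        rintro x ⟨hx, hx'⟩
        refine ⟨Q.inv_mem hx, ?_⟩
        have : t * x⁻¹ * t⁻¹ * x⁻¹⁻¹ = x⁻¹ * (t * x * t⁻¹ * x⁻¹)⁻¹ * x⁻¹⁻¹ := by group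
        rw [this]
        exact h.Zn _ (A.inv_mem (h.QA hx)) _ (Z.inv_mem hx') }
  have hX : X = Z := by
    rcases h.irrQ (X := X) (fun z hz => ⟨h.ZQ hz, Z.mul_mem (h.Zn t h.tA z hz) (Z.inv_mem hz)⟩)
      (fun x hx => hx.1) (by
        rintro a ha x ⟨hx, hx'⟩
        refine ⟨h.Qn a ha x hx, ?_⟩
        obtain ⟨q, hq, e⟩ := h.t_conj ha x
        rw [e]
        have : a * (q * (t * x * t⁻¹) * q⁻¹) * a⁻¹ * (a * x * a⁻¹)⁻¹ =
          a * ((q * (t * x * t⁻¹) * q⁻¹ * (t * x * t⁻¹)⁻¹) * (t * x * t⁻¹ * x⁻¹)) * a⁻¹ := by group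
        rw [this]
        exact h.Zn a ha _ (Z.mul_mem (h.DZ (h.com hq (h.Qn t h.tA x hx))) hx')) with h1 | h1
    · exact h1
    · exfalso
      apply h.tQ
      apply h.k1 t h.tA
      intro z hz
      rw [← h1] at hz
      exact hz.2
  rw [← hX]
  have h1 : t * x * t⁻¹ ∈ Q := h.Qn t h.tA x hx
  refine ⟨Q.mul_mem h1 hx, ?_⟩
  have h2 : t * (t * x * t⁻¹ * x) * t⁻¹ * (t * x * t⁻¹ * x)⁻¹ = x * (t * x * t⁻¹) * x⁻¹ * (t * x * t⁻¹)⁻¹ := by
    have h3 : t * (t * x * t⁻¹ * x) * t⁻¹ = x * (t * x * t⁻¹) := by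
      calc t * (t * x * t⁻¹ * x) * t⁻¹ = (t * t) * x * (t⁻¹ * x * t⁻¹) := by group
        _ = x * (t * x * t⁻¹) := by rw [h.t2, one_mul, h.t_inv]
    rw [h3]
    group
  rw [h2]
  exact h.DZ (h.com hx h1)

/-- the part of `Z` inverted by `t` -/
def V (h : Side A Q Z D S t) : Subgroup G where
  carrier := {z | z ∈ Z ∧ t * z * t⁻¹ = z⁻¹}
  one_mem' := ⟨Z.one_mem, by simp⟩
  mul_mem' := by
    rintro x y ⟨hx, hx'⟩ ⟨hy, hy'⟩
    refine ⟨Z.mul_mem hx hy, ?_⟩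
    have : t * (x * y) * t⁻¹ = (t * x * t⁻¹) * (t * y * t⁻¹) := by group
    rw [this, hx', hy', ← mul_inv_rev, h.comm hx (h.ZQ hy)]
  inv_mem' := by
    rintro x ⟨hx, hx'⟩
    refine ⟨Z.inv_mem hx, ?_⟩
    have : t * x⁻¹ * t⁻¹ = (t * x * t⁻¹)⁻¹ := by group
    rw [this, hx']

theorem mem_V (h : Side A Q Z D S t) {x : G} : x ∈ h.V ↔ x ∈ Z ∧ t * x * t⁻¹ = x⁻¹ := Iff.rfl

theorem VZ (h : Side A Q Z D S t) : h.V ≤ Z := fun x hx => hx.1

theorem Vn (h : Side A Q Z D S t) : ∀ a ∈ A, ∀ v ∈ h.V, a * v * a⁻¹ ∈ h.V := by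
  rintro a ha v ⟨hv, hv'⟩
  refine ⟨h.Zn a ha v hv, ?_⟩
  rw [h.t_conj_Z ha hv, hv']
  group

theorem inf_DV (h : Side A Q Z D S t) : D ⊓ h.V = ⊥ := by
  rw [eq_bot_iff]
  rintro d ⟨hd, hdV⟩
  have h1 := hdV.2
  rw [h.tD d hd, mul_inv_cancel_right] at h1
  refine h.mem_of_sq (X := ⊥) (h.DS hd) ?_
  rw [mem_bot]
  nth_rewrite 1 [h1]
  exact inv_mul_cancel d

theorem sup_DV (h : Side A Q Z D S t) : D ⊔ h.V = Z := by
  apply le_antisymm (sup_le h.DZ h.VZ)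
  intro z hz
  apply h.mem_of_sq (h.QS (h.ZQ hz))
  have h1 := h.invZ hz
  have htz := h.Zn t h.tA z hz
  have h2 : z * (t * z⁻¹ * t⁻¹) ∈ h.V := by
    refine ⟨Z.mul_mem hz (h.Zn t h.tA _ (Z.inv_mem hz)), ?_⟩
    calc t * (z * (t * z⁻¹ * t⁻¹)) * t⁻¹ = t * z * (t * z⁻¹ * (t⁻¹ * t⁻¹)) := by group
      _ = t * z * (t * z⁻¹) := by rw [← mul_inv_rev, h.t2, inv_one, mul_one]
      _ = (z * (t * z⁻¹ * t⁻¹))⁻¹ := by
        simp only [mul_inv_rev, inv_inv, h.t_inv, mul_assoc]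
  have e : z * z = (t * z * t⁻¹ * z) * (z * (t * z⁻¹ * t⁻¹)) := by
    have c : Commute (t * z * t⁻¹) z := (h.comm htz (h.ZQ hz)).symm
    calc z * z = z * z * ((t * z * t⁻¹) * (t * z * t⁻¹)⁻¹) := by rw [mul_inv_cancel, mul_one]
      _ = (z * z * (t * z * t⁻¹)) * (t * z * t⁻¹)⁻¹ := by group
      _ = ((t * z * t⁻¹) * (z * z)) * (t * z * t⁻¹)⁻¹ := by rw [(c.mul_right c).eq]
      _ = (t * z * t⁻¹ * z) * (z * (t * z⁻¹ * t⁻¹)) := by group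
  rw [e]
  exact mul_mem (mem_sup_left h1) (mem_sup_right h2)

theorem cV (h : Side A Q Z D S t) : Nat.card h.V = 9 := by
  have h1 := Cfsg.Agent.H356.CommSup.card_sup (A := D) (B := h.V)
    (fun a ha b hb => (h.comm (h.DZ ha) (h.ZQ hb.1)).symm) (disjoint_iff.2 h.inf_DV)
  rw [h.sup_DV, h.cZ, h.cD] at h1
  omega

theorem el (h : Side A Q Z D S t) : ∀ z ∈ Z, z * z * z = 1 := by
  let X : Subgroup G :=
    { carrier := {z | z ∈ Z ∧ z ^ 3 = 1}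
      one_mem' := ⟨Z.one_mem, one_pow 3⟩
      mul_mem' := by
        rintro x y ⟨hx, hx'⟩ ⟨hy, hy'⟩
        refine ⟨Z.mul_mem hx hy, ?_⟩
        rw [Commute.mul_pow (h.comm hy (h.ZQ hx)), hx', hy', one_mul]
      inv_mem' := by
        rintro x ⟨hx, hx'⟩
        exact ⟨Z.inv_mem hx, by rw [inv_pow, hx', inv_one]⟩ }
  have hDX : D ≤ X := by
    intro d hd
    refine ⟨h.DZ hd, ?_⟩
    have := pow_card_eq_one' (x := (⟨d, hd⟩ : D))
    rw [h.cD] at this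
    exact congrArg Subtype.val this
  have e : ∀ x : G, x * x * x = x ^ 3 := fun x => by rw [pow_succ, pow_two]
  rcases h.irrZ (X := X) hDX (fun x hx => hx.1) (by
      rintro a ha x ⟨hx, hx'⟩
      refine ⟨h.Zn a ha x hx, ?_⟩
      rw [conj_pow, hx', mul_one, mul_inv_cancel]) with h1 | h1
  · exfalso
    have : Fact (Nat.Prime 3) := ⟨Nat.prime_three⟩
    obtain ⟨v, hv⟩ := exists_prime_orderOf_dvd_card' (G := h.V) 3 (by rw [h.cV]; norm_num)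
    have h2 : (v : G) ^ 3 = 1 := by
      have : v ^ 3 = 1 := by rw [← hv, pow_orderOf_eq_one]
      exact congrArg Subtype.val this
    have h2' : (v : G) ∈ X := ⟨h.VZ v.2, h2⟩
    rw [h1] at h2'
    have h3 : (v : G) ∈ D ⊓ h.V := ⟨h2', v.2⟩
    rw [h.inf_DV, mem_bot] at h3
    have h4 : v = 1 := Subtype.ext h3
    rw [h4, orderOf_one] at hv
    norm_num at hv
  · intro z hz
    rw [← h1] at hz
    rw [e]
    exact hz.2

/-- the center of `S` -/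
def W (S : Subgroup G) : Subgroup G := S ⊓ centralizer (S : Set G)

theorem mem_W {x : G} : x ∈ W S ↔ x ∈ S ∧ ∀ s ∈ S, s * x = x * s :=
  ⟨fun h => ⟨h.1, fun s hs => mem_centralizer_iff.1 h.2 s hs⟩, fun h => ⟨h.1, mem_centralizer_iff.2 fun s hs => h.2 s hs⟩⟩

theorem WZ (h : Side A Q Z D S t) : W S ≤ Z := by
  intro x hx
  rw [mem_W] at hx
  rw [h.hZ]
  refine ⟨h.k1 x (h.SA hx.1) fun y hy => ?_, fun y hy => hx.2 y (h.QS hy)⟩
  rw [← hx.2 y (h.QS hy), mul_inv_cancel_right, mul_inv_cancel]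
  exact Z.one_mem

theorem cz (h : Side A Q Z D S t) : ∀ s ∈ S, s ∉ Q → ∀ z ∈ Z, s * z = z * s → z ∈ W S := by
  intro s hs hsQ z hz hsz
  let K : Subgroup G := S ⊓ centralizer ({z} : Set G)
  have hQK : Q ≤ K := fun x hx => ⟨h.QS hx, mem_centralizer_singleton_iff.2 (h.comm hz hx)⟩
  have h1 := h.card_lt hQK (x := s) ⟨hs, mem_centralizer_singleton_iff.2 hsz⟩ hsQ inf_le_left
  rw [h.cQ] at h1
  have h2 : K = S := eq_of_le_of_card_ge inf_le_left (by rw [h.cS]; omega)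
  rw [mem_W]
  refine ⟨h.QS (h.ZQ hz), fun y hy => ?_⟩
  rw [← h2] at hy
  exact mem_centralizer_singleton_iff.1 hy.2

theorem DW (h : Side A Q Z D S t) : D ≤ W S := fun d hd => mem_W.2 ⟨h.DS hd, fun s hs => h.comm_D hs hd⟩

theorem cW (h : Side A Q Z D S t) : Nat.card (W S) = 9 := by
  have : Fact (Nat.Prime 3) := ⟨Nat.prime_three⟩
  have hVne : (⊥ : Subgroup G) ≠ h.V := by
    intro h1
    have := h.cV
    rw [← h1, card_bot] at this
    omega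
  obtain ⟨v, hv, hv1, hfix⟩ := exists_fix h.pS (bot_le : (⊥ : Subgroup G) ≤ h.V) ((h.VZ.trans h.ZQ).trans h.QS)
    (fun s _ d hd => by rw [mem_bot.1 hd]; simp) (fun s hs => h.Vn s (h.SA hs)) hVne
  have h1 : v ∈ W S := by
    rw [mem_W]
    refine ⟨h.QS (h.ZQ (h.VZ hv)), fun s hs => ?_⟩
    have h2 := hfix s hs
    rw [mem_bot, mul_inv_eq_one, mul_inv_eq_iff_eq_mul] at h2
    exact h2
  have h2 : v ∉ D := by
    intro h2
    have h3 : v ∈ D ⊓ h.V := ⟨h2, hv⟩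
    rw [h.inf_DV] at h3
    exact hv1 h3
  have h3 := h.card_lt h.DW h1 h2 inf_le_left
  have h4 : ¬ Z ≤ W S := by
    intro h4
    have h5 : S ≤ Q := by
      intro s hs
      refine h.k2 s (h.SA hs) fun z hz => ?_
      rw [(mem_W.1 (h4 hz)).2 s hs, mul_inv_cancel_right, mul_inv_cancel]
      exact D.one_mem
    have h6 := Nat.le_of_dvd Nat.card_pos (card_dvd_of_le h5)
    rw [h.cS, h.cQ] at h6
    omega
  obtain ⟨z, hz, hzW⟩ := SetLike.not_le_iff_exists.1 h4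
  have h5 := h.card_lt h.WZ hz hzW (h.ZQ.trans h.QS)
  rw [h.cD] at h3
  rw [h.cZ] at h5
  omega

theorem half (h : Side A Q Z D S t) : Half S (W S) Q Z D where
  cS := h.cS
  cQ := h.cQ
  cZ := h.cZ
  cD := h.cD
  cW := h.cW
  hW := fun _ => mem_W
  QS := h.QS
  QN := fun s hs => h.Qn s (h.SA hs)
  hZ := h.hZ
  WZ := h.WZ
  DW := h.DW
  hD := h.hD
  el := h.el
  cz := h.cz
  fix := fun s hs hsQ => by
    by_contra hcon
    push Not at hcon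
    exact hsQ (h.k1 s (h.SA hs) hcon)

/-- `C_G(W) ≤ S` -/
theorem mem_S_of_cent (h : Side A Q Z D S t) {g : G} (hg : ∀ w ∈ W S, g * w = w * g) : g ∈ S := by
  have hgA : ∀ g : G, (∀ w ∈ W S, g * w = w * g) → g ∈ A := by
    intro g hg
    rw [← h.ND, mem_normalizer_iff]
    intro d
    constructor
    · intro hd
      rw [hg d (h.DW hd), mul_inv_cancel_right]
      exact hd
    · intro hd
      have h1 := hg _ (h.DW hd)
      have h2 : g * (g * d * g⁻¹) * g⁻¹ = g * d * g⁻¹ := by rw [h1, mul_inv_cancel_right]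
      have h3 : g * d * g⁻¹ = d := mul_left_cancel (mul_right_cancel h2)
      rwa [h3] at hd
  let C : Subgroup G := centralizer (W S : Set G)
  have hC : ∀ x, x ∈ C ↔ ∀ w ∈ W S, x * w = w * x :=
    fun x => ⟨fun hx w hw => (mem_centralizer_iff.1 hx w hw).symm, fun hx => mem_centralizer_iff.2 fun w hw => (hx w hw).symm⟩
  have hCA : C ≤ A := fun x hx => hgA x ((hC x).1 hx)
  have hSC : S ≤ C := fun s hs => (hC s).2 fun w hw => (mem_W.1 hw).2 s hs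
  have h2 : ¬ 2 ∣ Nat.card C := by
    intro h2
    have : Fact (Nat.Prime 2) := ⟨Nat.prime_two⟩
    obtain ⟨⟨c, hcC⟩, hc2⟩ := exists_prime_orderOf_dvd_card' (G := C) 2 h2
    have hcc : c * c = 1 := by
      have : (⟨c, hcC⟩ : C) ^ 2 = 1 := by rw [← hc2, pow_orderOf_eq_one]
      rw [pow_two] at this
      exact congrArg Subtype.val this
    have hc1 : c ≠ 1 := by
      rintro rfl
      have : (⟨1, hcC⟩ : C) = 1 := rfl
      rw [this, orderOf_one] at hc2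
      norm_num at hc2
    have hci : c⁻¹ = c := inv_eq_of_mul_eq_one_left hcc
    have hcA := hCA hcC
    have hcW := (hC c).1 hcC
    have hcQ : c ∉ Q := by
      intro hcQ
      have h3 := h.mem_of_sq (X := ⊥) (h.QS hcQ) (by rw [hcc]; exact mem_bot.2 rfl)
      exact hc1 (mem_bot.1 h3)
    -- an element inverted modulo `Z`
    obtain ⟨y₀, hy₀, hy⟩ : ∃ q ∈ Q, c * q * c⁻¹ * q⁻¹ ∉ Z := by
      by_contra hcon
      push Not at hcon
      exact hcQ (h.k1 c hcA hcon)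
    set y := c * y₀ * c⁻¹ * y₀⁻¹ with hydef
    have hyQ : y ∈ Q := Q.mul_mem (h.Qn c hcA _ hy₀) (Q.inv_mem hy₀)
    have hyc : c * y * c⁻¹ = y⁻¹ := by
      calc c * y * c⁻¹ = (c * c) * y₀ * c⁻¹ * y₀⁻¹ * c⁻¹ := by rw [hydef]; group
        _ = y₀ * c⁻¹ * y₀⁻¹ * c⁻¹ := by rw [hcc, one_mul]
        _ = y⁻¹ := by rw [hydef]; simp only [mul_inv_rev, inv_inv, hci, mul_assoc]
    have hplus : ∀ q ∈ Q, q * (c * q * c⁻¹) ∈ Z := by
      intro q hq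
      by_contra hx
      set x := q * (c * q * c⁻¹) with hxdef
      have hcq := h.Qn c hcA q hq
      have hxQ : x ∈ Q := Q.mul_mem hq hcq
      have hxc : ∃ d ∈ D, c * x * c⁻¹ = d * x := by
        refine ⟨(c * q * c⁻¹) * q * (c * q * c⁻¹)⁻¹ * q⁻¹, h.com hcq hq, ?_⟩
        calc c * x * c⁻¹ = c * q * (c * q * (c⁻¹ * c⁻¹)) := by rw [hxdef]; group
          _ = c * q * (c * q) := by rw [← mul_inv_rev, hcc, inv_one, mul_one]
          _ = c * q * c⁻¹ * q := by rw [hci]; group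
          _ = _ := by rw [hxdef]; group
      obtain ⟨d, hd, hxc⟩ := hxc
      -- `[x, y] = 1`
      have hxy : x * y * x⁻¹ * y⁻¹ = 1 := by
        have hm := h.com hxQ hyQ
        have h3 : c * (x * y * x⁻¹ * y⁻¹) * c⁻¹ = x * y * x⁻¹ * y⁻¹ := by
          rw [hcW _ (h.DW hm), mul_inv_cancel_right]
        have h4 : c * (x * y * x⁻¹ * y⁻¹) * c⁻¹ = (d * x) * y⁻¹ * (d * x)⁻¹ * y := by
          have : c * (x * y * x⁻¹ * y⁻¹) * c⁻¹ =
            (c * x * c⁻¹) * (c * y * c⁻¹) * (c * x * c⁻¹)⁻¹ * (c * y * c⁻¹)⁻¹ := by group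
          rw [this, hxc, hyc, inv_inv]
        have h5 : (d * x) * y⁻¹ * (d * x)⁻¹ * y = x * y⁻¹ * x⁻¹ * y := by
          have hdc : ∀ q ∈ Q, q * d = d * q := fun q hq => h.comm (h.DZ hd) hq
          have h6 := hdc _ (Q.mul_mem (Q.mul_mem hxQ (Q.inv_mem hyQ)) (Q.inv_mem hxQ))
          calc (d * x) * y⁻¹ * (d * x)⁻¹ * y = (d * (x * y⁻¹ * x⁻¹)) * d⁻¹ * y := by group
            _ = x * y⁻¹ * x⁻¹ * y := by rw [← h6, mul_inv_cancel_right]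
        have h6 : x * y⁻¹ * x⁻¹ * y = (x * y * x⁻¹ * y⁻¹)⁻¹ := by
          have h7 := h.comm (Z.inv_mem (h.DZ hm)) (Q.inv_mem hyQ)
          calc x * y⁻¹ * x⁻¹ * y = y⁻¹ * (x * y * x⁻¹ * y⁻¹)⁻¹ * y := by group
            _ = (x * y * x⁻¹ * y⁻¹)⁻¹ := by rw [h7, inv_mul_cancel_right]
        rw [h4, h5, h6] at h3
        refine mem_bot.1 (h.mem_of_sq (X := ⊥) (h.DS hm) ?_)
        rw [mem_bot]
        nth_rewrite 1 [← h3]
        exact inv_mul_cancel _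
      have hxy' : x * y = y * x := by
        rw [mul_inv_eq_one, mul_inv_eq_iff_eq_mul] at hxy
        exact hxy
      -- the centralizer of `x` in `Q` is `Q`
      let E : Subgroup G := zpowers x ⊔ Z
      have hEn : ∀ a ∈ zpowers x, ∀ b ∈ Z, a * b = b * a := fun a ha b hb =>
        h.comm hb ((zpowers_le.2 hxQ) ha)
      have hEQ : E ≤ Q := sup_le (zpowers_le.2 hxQ) h.ZQ
      have hyE : y ∉ E := by
        intro hyE
        obtain ⟨a, ha, z, hz, hyaz⟩ := mem_sup_comm hEn hyE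
        obtain ⟨k, rfl⟩ := mem_zpowers_iff.1 ha
        -- conjugating by `c`
        have hck : ∃ d' ∈ Z, c * x ^ k * c⁻¹ = d' * x ^ k := by
          refine ⟨d ^ k, Z.zpow_mem (h.DZ hd) k, ?_⟩
          have h7 : Commute d x := (h.comm (h.DZ hd) hxQ).symm
          have h8 : c * x ^ k * c⁻¹ = (c * x * c⁻¹) ^ k := by rw [conj_zpow]
          rw [h8, hxc, h7.mul_zpow]
        obtain ⟨d', hd', hck⟩ := hck
        have h7 : y⁻¹ = d' * y * (z⁻¹ * (c * z * c⁻¹)) := by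
          rw [← hyc]
          have h8 : c * y * c⁻¹ = (c * x ^ k * c⁻¹) * (c * z * c⁻¹) := by rw [hyaz]; group
          rw [h8, hck, hyaz]
          group
        have h8 : z⁻¹ * (c * z * c⁻¹) ∈ Z := Z.mul_mem (Z.inv_mem hz) (h.Zn c hcA z hz)
        have h9 : y * y ∈ Z := by
          have h10 : y * y = (d' * (z⁻¹ * (c * z * c⁻¹)))⁻¹ := by
            rw [eq_inv_iff_mul_eq_one]
            have h11 := h.comm h8 hyQ
            have h12 := h.comm hd' hyQ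
            have h13 : y⁻¹ * y⁻¹⁻¹ = 1 := mul_inv_cancel _
            calc y * y * (d' * (z⁻¹ * (c * z * c⁻¹))) = y * ((y * d') * (z⁻¹ * (c * z * c⁻¹))) := by group
              _ = y * (d' * y * (z⁻¹ * (c * z * c⁻¹))) := by rw [h12]
              _ = y * y⁻¹ := by rw [← h7]
              _ = 1 := mul_inv_cancel _
          rw [h10]
          exact Z.inv_mem (Z.mul_mem hd' h8)
        exact hy (h.mem_of_sq (h.QS hyQ) h9)
      let K : Subgroup G := Q ⊓ centralizer ({x} : Set G)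
      have hEK : E ≤ K := by
        refine le_inf hEQ (sup_le ?_ ?_)
        · rw [zpowers_le, mem_centralizer_singleton_iff]
        · intro z hz
          rw [mem_centralizer_singleton_iff]
          exact (h.comm hz hxQ).symm
      have c1 : 3 * Nat.card Z ≤ Nat.card E := h.card_lt (le_sup_right : Z ≤ E) (x := x) (mem_sup_left (mem_zpowers x)) hx (hEQ.trans h.QS)
      have c2 : 3 * Nat.card E ≤ Nat.card K := h.card_lt hEK (x := y) ⟨hyQ, mem_centralizer_singleton_iff.2 hxy'.symm⟩ hyE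
        (inf_le_left.trans h.QS)
      rw [h.cZ] at c1
      have h7 : K = Q := eq_of_le_of_card_ge inf_le_left (by rw [h.cQ]; omega)
      apply hx
      rw [h.hZ]
      refine ⟨hxQ, fun q hq => ?_⟩
      rw [← h7] at hq
      exact mem_centralizer_singleton_iff.1 hq.2
    -- `c t ∈ Q`
    have hct : c * t ∈ Q := by
      refine h.k1 _ (A.mul_mem hcA h.tA) fun q hq => ?_
      have h3 := h.invQ hq
      have h4 : t * q * t⁻¹ ∈ Q := h.Qn t h.tA q hq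
      have h5 := hplus _ h4
      -- `c (t q t⁻¹) c⁻¹ = (t q t⁻¹)⁻¹ z`
      have e : c * t * q * (c * t)⁻¹ * q⁻¹ =
          (t * q * t⁻¹)⁻¹ * (((t * q * t⁻¹) * (c * (t * q * t⁻¹) * c⁻¹)) * (t * q * t⁻¹ * q)⁻¹) * (t * q * t⁻¹) := by
        group
      rw [e]
      have h6 : ((t * q * t⁻¹) * (c * (t * q * t⁻¹) * c⁻¹)) * (t * q * t⁻¹ * q)⁻¹ ∈ Z := Z.mul_mem h5 (Z.inv_mem h3)
      have h7 := h.Zn _ (A.inv_mem (h.QA h4)) _ h6
      rwa [inv_inv] at h7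
    have hWD : W S ≤ D := by
      intro w hw
      have hwZ := h.WZ hw
      have h3 : t * w * t⁻¹ = w := by
        have h4 : t = c * (c * t) := by rw [← mul_assoc, hcc, one_mul]
        have h5 := h.comm hwZ hct
        calc t * w * t⁻¹ = c * (c * t * w * (c * t)⁻¹) * c⁻¹ := by
              nth_rewrite 1 [h4]
              nth_rewrite 2 [h4]
              group
          _ = c * w * c⁻¹ := by rw [h5, mul_inv_cancel_right]
          _ = w := by rw [hcW w hw, mul_inv_cancel_right]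
      have h4 := h.invZ hwZ
      rw [h3] at h4
      exact h.mem_of_sq (mem_W.1 hw).1 h4
    have h3 := Nat.le_of_dvd Nat.card_pos (card_dvd_of_le hWD)
    rw [h.cW, h.cD] at h3
    omega
  have h3 : Nat.card C ∣ 729 := by
    have h4 := card_dvd_of_le hCA
    rw [h.cA, show 11664 = 2 ^ 4 * 729 by norm_num] at h4
    exact (Nat.Coprime.pow_right 4 ((Nat.coprime_comm.1 ((Nat.Prime.coprime_iff_not_dvd Nat.prime_two).2 h2)))).dvd_of_dvd_mul_left h4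
  have h4 : S = C := eq_of_le_of_card_ge hSC (by rw [h.cS]; exact Nat.le_of_dvd (by norm_num) h3)
  rw [h4]
  exact (hC g).2 hg

end Side

end Cfsg.Agent.H473.GTwoSide
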