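import Cfsg.Agent.H473.GTwoCrit

/-!
# The completion of the `G₂(3)` amalgam is simple (S3393, helper473)
-/

set_option autoImplicit false
set_option linter.unusedSectionVars false

namespace Cfsg.Agent.H473.GTwoMain

open Subgroup Cfsg.Agent.H473.GTwoBase Cfsg.Agent.H473.GTwoHalf Cfsg.Agent.H473.GTwoSide
open Cfsg.Agent.H473.GTwoSide.Side (W mem_W)
open Cfsg.Agent.Lib
open scoped commutatorElement

variable {G : Type*} [Group G]

variable {A₁ Q₁ Z₁ D₁ A₂ Q₂ Z₂ D₂ S : Subgroup G} {t₁ t₂ : G}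

variable [Finite G]

namespace Amalg

theorem t_mem_normalizer {A Q Z D : Subgroup G} {t : G} (h : Side A Q Z D S t) : t ∈ normalizer (S : Set G) := by
  have key : ∀ s ∈ S, t * s * t⁻¹ ∈ S := by
    intro s hs
    have h1 := h.QS (h.tc s (h.SA hs))
    have e : t * s * t⁻¹ = (s * t * s⁻¹ * t⁻¹)⁻¹ * s := by group
    rw [e]
    exact S.mul_mem (S.inv_mem h1) hs
  rw [mem_normalizer_iff]
  intro s
  refine ⟨key s, fun hs => ?_⟩
  have h2 := key _ hs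
  have e : t * (t * s * t⁻¹) * t⁻¹ = (t * t) * s * (t * t)⁻¹ := by group
  rw [e, h.t2] at h2
  simpa using h2

/-- `t₁` inverts `D₂` -/
theorem t₁_inv (h : Amalg A₁ Q₁ Z₁ D₁ A₂ Q₂ Z₂ D₂ S t₁ t₂) {d : G} (hd : d ∈ D₂) : t₁ * d * t₁⁻¹ = d⁻¹ := by
  have h1 : t₁ ∈ A₂ := h.swap.normalizer_le (t_mem_normalizer h.s₁)
  have h2 := h.s₂.Dn t₁ h1 d hd
  have h3 := h.s₁.invZ (h.s₁.WZ (h.s₂.DW hd))
  have h4 : t₁ * d * t₁⁻¹ * d ∈ D₁ ⊓ D₂ := ⟨h3, D₂.mul_mem h2 hd⟩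
  have h5 : D₁ ⊓ D₂ = ⊥ := by
    by_contra hne
    obtain ⟨x, hx, hx1⟩ : ∃ x ∈ D₁ ⊓ D₂, x ≠ 1 := by
      by_contra hcon
      push Not at hcon
      exact hne ((eq_bot_iff_forall _).2 hcon)
    exact h.ne ((zpowers_eq h.s₁.cD hx.1 hx1).symm.trans (zpowers_eq h.s₂.cD hx.2 hx1))
  rw [h5, mem_bot] at h4
  exact eq_inv_of_mul_eq_one_left h4

theorem D₂_le_V (h : Amalg A₁ Q₁ Z₁ D₁ A₂ Q₂ Z₂ D₂ S t₁ t₂) : D₂ ≤ h.s₁.V :=
  fun _ hd => ⟨h.s₁.WZ (h.s₂.DW hd), h.t₁_inv hd⟩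

/-- a normal subgroup meeting `V` contains `V` -/
theorem V_le {A Q Z D : Subgroup G} {t : G} (h : Side A Q Z D S t) {N : Subgroup G} (hN : N.Normal)
    {x : G} (hx : x ∈ h.V) (hx1 : x ≠ 1) (hxN : x ∈ N) : h.V ≤ N := by
  let X : Subgroup G := D ⊔ (h.V ⊓ N)
  have hXZ : X ≤ Z := sup_le h.DZ (inf_le_left.trans h.VZ)
  have hc : ∀ a ∈ D, ∀ b ∈ h.V ⊓ N, a * b = b * a := fun a ha b hb => (h.comm (h.DZ ha) (h.ZQ (h.VZ hb.1))).symm
  have hXn : ∀ a ∈ A, ∀ y ∈ X, a * y * a⁻¹ ∈ X := by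
    intro a ha y hy
    obtain ⟨d, hd, v, hv, rfl⟩ := mem_sup_comm hc hy
    have e : a * (d * v) * a⁻¹ = (a * d * a⁻¹) * (a * v * a⁻¹) := by group
    rw [e]
    exact mul_mem (mem_sup_left (h.Dn a ha d hd)) (mem_sup_right ⟨h.Vn a ha v hv.1, hN.conj_mem v hv.2 a⟩)
  have hdis : D ⊓ (h.V ⊓ N) = ⊥ := by
    rw [← inf_assoc, h.inf_DV, bot_inf_eq]
  rcases h.irrZ (X := X) le_sup_left hXZ hXn with h1 | h1
  · exfalso
    have h2 : x ∈ D := by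
      rw [← h1]
      exact mem_sup_right ⟨hx, hxN⟩
    have h3 : x ∈ D ⊓ h.V := ⟨h2, hx⟩
    rw [h.inf_DV, mem_bot] at h3
    exact hx1 h3
  · have h2 := Cfsg.Agent.H356.CommSup.card_sup (A := D) (B := h.V ⊓ N) hc (disjoint_iff.2 hdis)
    have h3 : Nat.card ↥(D ⊔ (h.V ⊓ N)) = 27 := by
      have : D ⊔ (h.V ⊓ N) = Z := h1
      rw [this, h.cZ]
    rw [h3, h.cD] at h2
    have h4 : h.V ⊓ N = h.V := eq_of_le_of_card_ge inf_le_left (by rw [h.cV]; omega)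
    exact inf_eq_left.1 h4

/-- a nontrivial element of `W` in a subgroup normalized by `t` -/
theorem D_or_V {A Q Z D : Subgroup G} {t : G} (h : Side A Q Z D S t) {N : Subgroup G}
    (hN : ∀ x ∈ N, t * x * t⁻¹ ∈ N) {w : G} (hw : w ∈ W S) (hw1 : w ≠ 1) (hwN : w ∈ N) :
    D ≤ N ∨ ∃ v ∈ h.V, v ≠ 1 ∧ v ∈ N ∧ v ∈ W S := by
  have hwZ := h.WZ hw
  have h1 := h.invZ hwZ
  have h2 := hN w hwN
  by_cases h3 : t * w * t⁻¹ * w = 1
  · right
    exact ⟨w, ⟨hwZ, eq_inv_of_mul_eq_one_left h3⟩, hw1, hwN, hw⟩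
  · left
    rw [← zpowers_eq h.cD h1 h3, zpowers_le]
    exact N.mul_mem h2 hwN

/-- `V ⊓ W = D₂` -/
theorem V_inf_W (h : Amalg A₁ Q₁ Z₁ D₁ A₂ Q₂ Z₂ D₂ S t₁ t₂) {v : G} (hv : v ∈ h.s₁.V) (hvW : v ∈ W S) : v ∈ D₂ := by
  by_contra hcon
  have h1 : D₂ ≤ h.s₁.V ⊓ W S := le_inf h.D₂_le_V h.s₂.DW
  have h2 := h.s₁.card_lt h1 (x := v) ⟨hv, hvW⟩ hcon (inf_le_right.trans inf_le_left)
  rw [h.s₂.cD] at h2
  have h3 : h.s₁.V ⊓ W S = W S := eq_of_le_of_card_ge inf_le_right (by rw [h.s₁.cW]; omega)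
  have h4 : D₁ ≤ h.s₁.V := h.s₁.DW.trans (inf_eq_right.1 h3)
  have h5 := h.s₁.inf_DV
  rw [inf_eq_left.2 h4] at h5
  have h6 := h.s₁.cD
  rw [h5, card_bot] at h6
  omega

/-- `D₁ ≤ N` or `D₂ ≤ N` -/
theorem D_or_D (h : Amalg A₁ Q₁ Z₁ D₁ A₂ Q₂ Z₂ D₂ S t₁ t₂) {N : Subgroup G}
    (hN : ∀ x ∈ N, t₁ * x * t₁⁻¹ ∈ N) {w : G} (hw : w ∈ W S) (hw1 : w ≠ 1) (hwN : w ∈ N) :
    D₁ ≤ N ∨ D₂ ≤ N := by
  rcases D_or_V h.s₁ hN hw hw1 hwN with h1 | ⟨v, hv, hv1, hvN, hvW⟩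
  · exact Or.inl h1
  · right
    rw [← zpowers_eq h.s₂.cD (h.V_inf_W hv hvW) hv1, zpowers_le]
    exact hvN

theorem exists_one_ne {D : Subgroup G} (h : Nat.card D = 3) : ∃ d ∈ D, d ≠ 1 := by
  by_contra hcon
  push Not at hcon
  have h1 : D = ⊥ := (eq_bot_iff_forall _).2 hcon
  rw [h1, card_bot] at h
  omega

/-- the covering step -/
theorem cover (h : Amalg A₁ Q₁ Z₁ D₁ A₂ Q₂ Z₂ D₂ S t₁ t₂) {N : Subgroup G} (hN : N.Normal) (hV : h.s₂.V ≤ N) :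
    (N ⊓ Q₁) ⊔ Z₁ = Q₁ := by
  have hc : ∀ a ∈ N ⊓ Q₁, ∀ b ∈ Z₁, a * b = b * a := fun a ha b hb => h.s₁.comm hb ha.2
  rcases h.s₁.irrQ (X := (N ⊓ Q₁) ⊔ Z₁) le_sup_right (sup_le inf_le_right h.s₁.ZQ) (by
      intro a ha y hy
      obtain ⟨n, hn, z, hz, rfl⟩ := mem_sup_comm hc hy
      have e : a * (n * z) * a⁻¹ = (a * n * a⁻¹) * (a * z * a⁻¹) := by group
      rw [e]
      exact mul_mem (mem_sup_left ⟨hN.conj_mem n hn.1 a, h.s₁.Qn a ha n hn.2⟩) (mem_sup_right (h.s₁.Zn a ha z hz)))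
    with h1 | h1
  · exfalso
    have h2 : h.s₂.V ≤ Z₁ := by
      have h3 : h.s₂.V ≤ N ⊓ Q₁ := le_inf hV (h.s₂.VZ.trans (h.h₁.Z'_le h.h₂ h.ne))
      exact (h3.trans le_sup_left).trans h1.le
    have h3 : h.s₂.V ≤ W S := by
      rw [← h.h₁.inf_Z h.h₂ h.ne]
      exact le_inf h2 h.s₂.VZ
    have h4 : h.s₂.V = W S := eq_of_le_of_card_ge h3 (by rw [h.s₂.cV, h.s₂.cW])
    have h5 := h.s₂.inf_DV
    rw [h4, inf_eq_left.2 h.s₂.DW] at h5
    have h6 := h.s₂.cD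
    rw [h5, card_bot] at h6
    omega
  · exact h1

theorem D_le_of_cover {A Q Z D : Subgroup G} {t : G} (h : Side A Q Z D S t) {N : Subgroup G} (hN : N.Normal)
    (hcov : (N ⊓ Q) ⊔ Z = Q) : D ≤ N := by
  rw [h.hD, commutator_le]
  intro x hx y hy
  rw [← hcov] at hx hy
  have hc : ∀ a ∈ N ⊓ Q, ∀ b ∈ Z, a * b = b * a := fun a ha b hb => h.comm hb ha.2
  obtain ⟨r, hr, z, hz, rfl⟩ := mem_sup_comm hc hx
  obtain ⟨s, hs, w, hw, rfl⟩ := mem_sup_comm hc hy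
  have c1 := h.comm hz (Q.mul_mem hs.2 (h.ZQ hw))
  have c2 := h.comm hw (Q.inv_mem hr.2)
  have e : ⁅r * z, s * w⁆ = r * s * r⁻¹ * s⁻¹ := by
    rw [commutatorElement_def]
    calc r * z * (s * w) * (r * z)⁻¹ * (s * w)⁻¹ = r * (z * (s * w)) * z⁻¹ * r⁻¹ * (s * w)⁻¹ := by group
      _ = r * s * (w * r⁻¹) * (s * w)⁻¹ := by rw [← c1]; group
      _ = r * s * r⁻¹ * s⁻¹ := by rw [← c2]; group
  rw [e]
  have : r * s * r⁻¹ * s⁻¹ = r * (s * r⁻¹ * s⁻¹) := by group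
  rw [this]
  exact N.mul_mem hr.1 (hN.conj_mem _ (N.inv_mem hr.1) s)

/-- `D₁ ≤ N` implies `D₂ ≤ N` and `Q₁ ≤ N` -/
theorem step (h : Amalg A₁ Q₁ Z₁ D₁ A₂ Q₂ Z₂ D₂ S t₁ t₂) {N : Subgroup G} (hN : N.Normal) (hD : D₁ ≤ N) :
    D₂ ≤ N ∧ Q₁ ≤ N := by
  obtain ⟨d, hd, hd1⟩ := exists_one_ne h.s₁.cD
  have hV₂ : h.s₂.V ≤ N := V_le h.s₂ hN (h.swap.D₂_le_V hd) hd1 (hD hd)
  have hcov := h.cover hN hV₂
  have hD₂ : D₂ ≤ N := by
    by_contra hcon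
    have hc2 : ∀ a ∈ N ⊓ Q₂, ∀ b ∈ Z₂, a * b = b * a := fun a ha b hb => h.s₂.comm hb ha.2
    rcases h.s₂.irrQ (X := (N ⊓ Q₂) ⊔ Z₂) le_sup_right (sup_le inf_le_right h.s₂.ZQ) (by
        intro a ha y hy
        obtain ⟨n, hn, z, hz, rfl⟩ := mem_sup_comm hc2 hy
        have e : a * (n * z) * a⁻¹ = (a * n * a⁻¹) * (a * z * a⁻¹) := by group
        rw [e]
        exact mul_mem (mem_sup_left ⟨hN.conj_mem n hn.1 a, h.s₂.Qn a ha n hn.2⟩) (mem_sup_right (h.s₂.Zn a ha z hz)))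
      with h1 | h1
    · -- `N ⊓ Q₂ ≤ Z₂`
      have h2 : N ⊓ Q₂ ≤ Z₂ := le_sup_left.trans h1.le
      have h3 : N ⊓ A₂ ≤ Q₂ := by
        intro n hn
        refine h.s₂.k1 n hn.2 fun x hx => h2 ⟨?_, ?_⟩
        · have : n * x * n⁻¹ * x⁻¹ = n * (x * n⁻¹ * x⁻¹) := by group
          rw [this]
          exact N.mul_mem hn.1 (hN.conj_mem _ (N.inv_mem hn.1) x)
        · exact Q₂.mul_mem (h.s₂.Qn n hn.2 x hx) (Q₂.inv_mem hx)
      have h4 : N ⊓ Q₁ ≤ Z₂ := fun x hx => h2 ⟨hx.1, h3 ⟨hx.1, h.s₂.SA (h.s₁.QS hx.2)⟩⟩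
      have h5 : Q₁ ≤ Q₁ ⊓ Q₂ := by
        rw [← h.h₁.sup_Z h.h₂ h.ne]
        calc Q₁ = (N ⊓ Q₁) ⊔ Z₁ := hcov.symm
          _ ≤ Z₁ ⊔ Z₂ := sup_le (h4.trans le_sup_right) le_sup_left
      have h6 := Nat.le_of_dvd Nat.card_pos (card_dvd_of_le h5)
      rw [h.s₁.cQ, h.h₁.card_inf h.h₂ h.ne] at h6
      omega
    · exact hcon (D_le_of_cover h.s₂ hN h1)
  refine ⟨hD₂, ?_⟩
  obtain ⟨e, he, he1⟩ := exists_one_ne h.s₂.cD
  have hV₁ : h.s₁.V ≤ N := V_le h.s₁ hN (h.D₂_le_V he) he1 (hD₂ he)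
  rw [← hcov]
  refine sup_le inf_le_left ?_
  rw [← h.s₁.sup_DV]
  exact sup_le hD hV₁

/-- **every nontrivial normal subgroup contains `S`** -/
theorem S_le (h : Amalg A₁ Q₁ Z₁ D₁ A₂ Q₂ Z₂ D₂ S t₁ t₂) {N : Subgroup G} (hN : N.Normal) (hN1 : N ≠ ⊥) : S ≤ N := by
  have : Fact (Nat.Prime 3) := ⟨Nat.prime_three⟩
  have h3 : 3 ∣ Nat.card N := h.O N hN.isSubnormal hN1
  have h4 := Cfsg.Agent.H821.FixCard.card_modEq (N := N) (P := S) h.s₁.pS (by rw [normalizer_eq_top N]; exact le_top)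
  have h5 : 3 ∣ Nat.card (N ⊓ centralizer (S : Set G) : Subgroup G) :=
    Nat.modEq_zero_iff_dvd.1 (h4.symm.trans (Nat.modEq_zero_iff_dvd.2 h3))
  obtain ⟨x, hx⟩ := exists_prime_orderOf_dvd_card' (G := (N ⊓ centralizer (S : Set G) : Subgroup G)) 3 h5
  have hx1 : (x : G) ≠ 1 := by
    intro h6
    have : x = 1 := Subtype.ext h6
    rw [this, orderOf_one] at hx
    norm_num at hx
  have hxS : (x : G) ∈ W S := by
    have h7 : (x : G) ∈ S := h.s₁.mem_S_of_cent fun w hw => (mem_centralizer_iff.1 x.2.2 w (mem_W.1 hw).1).symm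
    exact ⟨h7, x.2.2⟩
  rw [← h.h₁.sup_eq h.h₂ h.ne]
  rcases h.D_or_D (fun y hy => hN.conj_mem y hy t₁) hxS hx1 x.2.1 with h6 | h6
  · have h7 := h.step hN h6
    exact sup_le h7.2 (h.swap.step hN h7.1).2
  · have h7 := h.swap.step hN h6
    exact sup_le (h.step hN h7.1).2 h7.2

theorem S_not_comm (h : Amalg A₁ Q₁ Z₁ D₁ A₂ Q₂ Z₂ D₂ S t₁ t₂) : ¬ ∀ x ∈ S, ∀ y ∈ S, x * y = y * x := by
  intro hcon
  have h1 : D₁ ≤ ⊥ := by
    rw [h.s₁.hD, commutator_le]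
    intro x hx y hy
    rw [mem_bot, commutatorElement_def, hcon x (h.s₁.QS hx) y (h.s₁.QS hy), mul_inv_cancel_right, mul_inv_cancel]
  have h2 := Nat.le_of_dvd Nat.card_pos (card_dvd_of_le h1)
  rw [h.s₁.cD, card_bot] at h2
  omega

/-- `D₂ ≤ U` with `U` centralizing `D₁`: `U` is not simple -/
theorem not_simple_of (h : Amalg A₁ Q₁ Z₁ D₁ A₂ Q₂ Z₂ D₂ S t₁ t₂) {U : Subgroup G} (hU : IsSimpleGroup U)
    (hna : ¬ ∀ x ∈ U, ∀ y ∈ U, x * y = y * x)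
    (hcom : ∀ u ∈ U, ∀ d ∈ D₁, u * d = d * u) (hD : D₂ ≤ U) : False := by
  have : Fact (Nat.Prime 3) := ⟨Nat.prime_three⟩
  have hUA : U ≤ A₁ := by
    intro u hu
    rw [← h.s₁.ND, mem_normalizer_iff]
    intro d
    constructor
    · intro hd
      rw [hcom u hu d hd, mul_inv_cancel_right]
      exact hd
    · intro hd
      have h1 := hcom u hu _ hd
      have h2 : u * (u * d * u⁻¹) * u⁻¹ = u * d * u⁻¹ := by rw [h1, mul_inv_cancel_right]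
      have h3 : u * d * u⁻¹ = d := mul_left_cancel (mul_right_cancel h2)
      rwa [h3] at hd
  have hn : (Q₁.subgroupOf U).Normal :=
    ⟨fun q hq u => mem_subgroupOf.2 (h.s₁.Qn u (hUA u.2) q (mem_subgroupOf.1 hq))⟩
  have hUQ : U ≤ Q₁ := by
    rcases hn.eq_bot_or_eq_top with h1 | h1
    · exfalso
      obtain ⟨d, hd, hd1⟩ := exists_one_ne h.s₂.cD
      have h2 : (⟨d, hD hd⟩ : U) ∈ Q₁.subgroupOf U := mem_subgroupOf.2 (h.s₁.ZQ (h.s₁.WZ (h.s₂.DW hd)))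
      rw [h1, mem_bot] at h2
      exact hd1 (congrArg Subtype.val h2)
    · exact subgroupOf_eq_top.1 h1
  have hUp : IsPGroup 3 U := (isPGroup_of_card_pow (A := Q₁) (n := 5) (by rw [h.s₁.cQ]; norm_num)).to_le hUQ
  have hnil : Group.IsNilpotent U := hUp.isNilpotent
  have hsol : Group.IsSolvable U := inferInstance
  have hc := IsSimpleGroup.comm_iff_isSolvable.2 hsol
  exact hna fun x hx y hy => congrArg Subtype.val (hc ⟨x, hx⟩ ⟨y, hy⟩)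

/-- a minimal normal subgroup is simple, contains `S`, and equals `G` -/
theorem isSimple (h : Amalg A₁ Q₁ Z₁ D₁ A₂ Q₂ Z₂ D₂ S t₁ t₂) : IsSimpleGroup G := by
  have : Fact (Nat.Prime 3) := ⟨Nat.prime_three⟩
  have hSne : S ≠ ⊥ := by
    intro h1
    have h2 := h.s₁.cS
    rw [h1, Subgroup.card_bot] at h2
    omega
  -- a minimal normal subgroup
  have hfin : {T : Subgroup G | T ≠ ⊥ ∧ T.Normal}.Finite := Set.toFinite _
  have hne : {T : Subgroup G | T ≠ ⊥ ∧ T.Normal}.Nonempty := by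
    refine ⟨⊤, fun h1 => hSne (le_bot_iff.1 ?_), inferInstance⟩
    rw [← h1]; exact le_top
  obtain ⟨N, ⟨hN0, hNn⟩, hNmin⟩ := hfin.exists_minimal hne
  have hmin : ∀ M : Subgroup G, M.Normal → M ≤ N → M = ⊥ ∨ M = N := by
    intro M hM hMK
    by_cases hM0 : M = ⊥
    · exact Or.inl hM0
    · exact Or.inr (le_antisymm hMK (hNmin ⟨hM0, hM⟩ hMK))
  have hSN : S ≤ N := h.S_le hNn hN0
  have hna : ¬ ∀ x ∈ N, ∀ y ∈ N, Commute x y :=
    fun hcon => h.S_not_comm fun x hx y hy => hcon x (hSN hx) y (hSN hy)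
  have ht₁ : t₁ ∈ N := by
    have := h.s₁.tN (N ⊓ A₁) inf_le_right (fun a ha n hn => ⟨hNn.conj_mem n hn.1 a,
      A₁.mul_mem (A₁.mul_mem ha hn.2) (A₁.inv_mem ha)⟩) (le_inf hSN h.s₁.SA)
    exact this.1
  have ht₂ : t₂ ∈ N := by
    have := h.s₂.tN (N ⊓ A₂) inf_le_right (fun a ha n hn => ⟨hNn.conj_mem n hn.1 a,
      A₂.mul_mem (A₂.mul_mem ha hn.2) (A₂.inv_mem ha)⟩) (le_inf hSN h.s₂.SA)
    exact this.1
  obtain ⟨hnonempty, hind, hsup, hsimple, hcen, hconj⟩ := MinNormalNonabelian.nonabelian_structure N hmin hna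
  have hnaT : ∀ T ∈ MinNormalNonabelian.minSet N, ¬ ∀ x ∈ T, ∀ y ∈ T, x * y = y * x := by
    intro T hT hc
    apply hT.2.1
    rw [eq_bot_iff_forall]
    intro x hx
    exact hcen T hT x hx fun t ht => hc x hx t ht
  have hd3 : ∀ T ∈ MinNormalNonabelian.minSet N, 3 ∣ Nat.card T := by
    intro T hT
    refine h.O T (.step T N hT.1 hNn.isSubnormal ?_) hT.2.1
    exact (normal_subgroupOf_iff_le_normalizer hT.1).2 hT.2.2.1
  have hDD : ∀ T ∈ MinNormalNonabelian.minSet N, D₁ ≤ T ∨ D₂ ≤ T := by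
    intro T hT
    have hST : S ≤ normalizer (T : Set G) := hSN.trans hT.2.2.1
    have h4 := Cfsg.Agent.H821.FixCard.card_modEq (N := T) (P := S) h.s₁.pS hST
    have h5 : 3 ∣ Nat.card (T ⊓ centralizer (S : Set G) : Subgroup G) :=
      Nat.modEq_zero_iff_dvd.1 (h4.symm.trans (Nat.modEq_zero_iff_dvd.2 (hd3 T hT)))
    obtain ⟨x, hx⟩ := exists_prime_orderOf_dvd_card' (G := (T ⊓ centralizer (S : Set G) : Subgroup G)) 3 h5
    have hx1 : (x : G) ≠ 1 := by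
      intro h6
      have : x = 1 := Subtype.ext h6
      rw [this, orderOf_one] at hx
      norm_num at hx
    have hxS : (x : G) ∈ W S := by
      have h7 : (x : G) ∈ S := h.s₁.mem_S_of_cent fun w hw => (mem_centralizer_iff.1 x.2.2 w (mem_W.1 hw).1).symm
      exact ⟨h7, x.2.2⟩
    exact h.D_or_D (fun y hy => (mem_normalizer_iff.1 (hT.2.2.1 ht₁) y).1 hy) hxS hx1 x.2.1
  have hcommTU : ∀ T ∈ MinNormalNonabelian.minSet N, ∀ U ∈ MinNormalNonabelian.minSet N, T ≠ U →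
      ∀ x ∈ T, ∀ y ∈ U, x * y = y * x := fun T hT U hU hne x hx y hy =>
    (MinNormal.commute_of_mem hind (fun V hV => hV.2.2.1) (fun V hV => hV.1) hT hU hne hx hy).eq
  have huniq : ∀ T ∈ MinNormalNonabelian.minSet N, ∀ U ∈ MinNormalNonabelian.minSet N, T = U := by
    intro T hT U hU
    by_contra hTU
    have hcomm := hcommTU T hT U hU hTU
    have hno : ∀ {D : Subgroup G}, Nat.card D = 3 → D ≤ T → D ≤ U → False := by
      intro D hD h1 h2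
      obtain ⟨d, hd, hd1⟩ := exists_one_ne hD
      exact hd1 (hcen T hT d (h1 hd) fun t ht => (hcomm t ht d (h2 hd)).symm)
    rcases hDD T hT with h1 | h1 <;> rcases hDD U hU with h2 | h2
    · exact hno h.s₁.cD h1 h2
    · exact h.not_simple_of (hsimple U hU) (hnaT U hU) (fun u hu d hd => (hcomm d (h1 hd) u hu).symm) h2
    · exact h.not_simple_of (hsimple T hT) (hnaT T hT) (fun u hu d hd => hcomm u hu d (h2 hd)) h1
    · exact hno h.s₂.cD h1 h2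
  obtain ⟨T, hT⟩ := hnonempty
  have hTN : T = N := by
    apply le_antisymm hT.1
    rw [← hsup]
    exact sSup_le fun U hU => (huniq U hU T hT).le
  have hNs : IsSimpleGroup N := hTN ▸ hsimple T hT
  -- `G = N`
  have hnorm : normalizer (S : Set G) ≤ N := by
    intro n hn
    have hn₁ := h.normalizer_le hn
    have hn₂ := h.swap.normalizer_le hn
    obtain ⟨d, hd, hd1⟩ := exists_one_ne h.s₁.cD
    obtain ⟨e, he, he1⟩ := exists_one_ne h.s₂.cD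
    have hW : W S = D₁ ⊔ D₂ := by
      refine (eq_of_le_of_card_ge (sup_le h.s₁.DW h.s₂.DW) ?_).symm
      rw [h.s₁.cW]
      have h1 : e ∉ D₁ := by
        intro h1
        exact h.ne ((zpowers_eq h.s₁.cD h1 he1).symm.trans (zpowers_eq h.s₂.cD he he1))
      have h2 := h.s₁.card_lt (le_sup_left : D₁ ≤ D₁ ⊔ D₂) (x := e) (mem_sup_right he) h1
        (sup_le h.s₁.DS h.s₂.DS)
      rw [h.s₁.cD] at h2
      omega
    -- the values on generators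
    have hval : ∀ {D : Subgroup G}, Nat.card D = 3 → ∀ {d : G}, d ∈ D → d ≠ 1 → ∀ {x : G}, x ∈ D → x ≠ 1 →
        x = d ∨ x = d⁻¹ := by
      intro D hD d hd hd1 x hx hx1
      rw [← zpowers_eq hD hd hd1] at hx
      obtain ⟨k, rfl⟩ := mem_zpowers_iff.1 hx
      have ho : orderOf d = 3 := by
        rw [← Nat.card_zpowers, zpowers_eq hD hd hd1, hD]
      have h3 : d ^ (3 : ℤ) = 1 := by
        have h4 : d ^ 3 = 1 := by
          rw [← ho, pow_orderOf_eq_one]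
        exact_mod_cast h4
      have hk : k % 3 = 0 ∨ k % 3 = 1 ∨ k % 3 = 2 := by omega
      have hk' : k = 3 * (k / 3) + k % 3 := by omega
      have e1 : d ^ k = d ^ (k % 3) := by
        rw [hk', zpow_add, zpow_mul, h3, one_zpow, one_mul, ← hk']
      rcases hk with h4 | h4 | h4
      · exfalso
        rw [e1, h4, zpow_zero] at hx1
        exact hx1 rfl
      · left
        rw [e1, h4, zpow_one]
      · right
        rw [e1, h4]
        have : d ^ (2 : ℤ) = d ^ (3 : ℤ) * d⁻¹ := by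
          rw [show (3 : ℤ) = 2 + 1 by norm_num, zpow_add, zpow_one, mul_inv_cancel_right]
        rw [this, h3, one_mul]
    have hconj1 : ∀ {x y : G}, y ≠ 1 → x * y * x⁻¹ ≠ 1 := by
      intro x y hy h1
      rw [mul_inv_eq_one, mul_eq_left] at h1
      exact hy h1
    -- an element acting trivially
    have key : ∀ m : G, m ∈ A₁ → m ∈ A₂ → m * d * m⁻¹ = d → m * e * m⁻¹ = e → m ∈ S := by
      intro m _ _ h1 h2
      apply h.s₁.mem_S_of_cent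
      have h3 : W S ≤ centralizer ({m} : Set G) := by
        rw [hW, ← zpowers_eq h.s₁.cD hd hd1, ← zpowers_eq h.s₂.cD he he1]
        refine sup_le ?_ ?_
        · rw [zpowers_le, mem_centralizer_singleton_iff]
          exact (mul_inv_eq_iff_eq_mul.1 h1).symm
        · rw [zpowers_le, mem_centralizer_singleton_iff]
          exact (mul_inv_eq_iff_eq_mul.1 h2).symm
      intro w hw
      exact (mem_centralizer_singleton_iff.1 (h3 hw)).symm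
    have ht₁A₂ : t₁ ∈ A₂ := h.swap.normalizer_le (t_mem_normalizer h.s₁)
    have ht₂A₁ : t₂ ∈ A₁ := h.normalizer_le (t_mem_normalizer h.s₂)
    have a1 : t₁ * d * t₁⁻¹ = d := by rw [h.s₁.tD d hd, mul_inv_cancel_right]
    have a2 : t₁ * e * t₁⁻¹ = e⁻¹ := h.t₁_inv he
    have a3 : t₂ * d * t₂⁻¹ = d⁻¹ := h.swap.t₁_inv hd
    have a4 : t₂ * e * t₂⁻¹ = e := by rw [h.s₂.tD e he, mul_inv_cancel_right]
    have b : ∀ {x y u : G}, x * y * x⁻¹ = u → ∀ (z : G), (z * x) * y * (z * x)⁻¹ = z * u * z⁻¹ := by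
      intro x y u h1 z
      rw [← h1]; group
    have binv : ∀ {x y u : G}, x * y * x⁻¹ = u → x * y⁻¹ * x⁻¹ = u⁻¹ := by
      intro x y u h1
      rw [← h1]; group
    rcases hval h.s₁.cD hd hd1 (h.s₁.Dn n hn₁ d hd) (hconj1 hd1) with c1 | c1 <;>
      rcases hval h.s₂.cD he he1 (h.s₂.Dn n hn₂ e he) (hconj1 he1) with c2 | c2
    · exact hSN (key n hn₁ hn₂ c1 c2)
    · have h1 := key (t₁ * n) (A₁.mul_mem h.s₁.tA hn₁) (A₂.mul_mem ht₁A₂ hn₂) (by rw [b c1, a1])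
        (by rw [b c2, binv a2, inv_inv])
      exact (N.mul_mem_cancel_left ht₁).1 (hSN h1)
    · have h1 := key (t₂ * n) (A₁.mul_mem ht₂A₁ hn₁) (A₂.mul_mem h.s₂.tA hn₂) (by rw [b c1, binv a3, inv_inv])
        (by rw [b c2, a4])
      exact (N.mul_mem_cancel_left ht₂).1 (hSN h1)
    · have h1 := key (t₁ * (t₂ * n)) (A₁.mul_mem h.s₁.tA (A₁.mul_mem ht₂A₁ hn₁))
        (A₂.mul_mem ht₁A₂ (A₂.mul_mem h.s₂.tA hn₂))
        (by rw [b (b c1 t₂), binv a3, inv_inv, a1]) (by rw [b (b c2 t₂), binv a4, binv a2, inv_inv])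
      exact (N.mul_mem_cancel_left ht₂).1 ((N.mul_mem_cancel_left ht₁).1 (hSN h1))
  have htop : N = ⊤ := by
    have h1 := Sylow.normalizer_sup_eq_top' h.syl (N := N) hSN
    rw [← h1]
    exact (sup_eq_right.2 hnorm).symm
  rw [htop] at hNs
  exact (Subgroup.topEquiv (G := G)).symm.isSimpleGroup

end Amalg

end Cfsg.Agent.H473.GTwoMain
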